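import Cfsg.Agent.Lib.Coprime.SchurZassenhaus

/-!
Coprime action: the setting is two subgroups `A`, `K` of a finite group with `A` normalising `K`,
coprime orders, and `A` or `K` solvable.

The two basic facts are stated for an arbitrary subgroup `S` (think of it as the stabiliser of a
point): Glauberman's lemma on the existence of a fixed point and on the transitivity of the
centraliser of `A` on fixed points.
-/

set_option autoImplicit false
set_option linter.style.haveILetI false
open Pointwise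

namespace CfsgLib.Coprime

universe u

variable {G : Type u} [Group G]

lemma mem_normalizer_conj {H : Subgroup G} {a x : G} (ha : a ∈ Subgroup.normalizer (H : Set G))
    (hx : x ∈ H) : a * x * a⁻¹ ∈ H :=
  (Subgroup.le_normalizer_iff.1 (le_refl (Subgroup.normalizer (H : Set G)))) a ha x hx

lemma mem_normalizer_conj' {H : Subgroup G} {a x : G} (ha : a ∈ Subgroup.normalizer (H : Set G))
    (hx : x ∈ H) : a⁻¹ * x * a ∈ H := by
  simpa using mem_normalizer_conj (Subgroup.inv_mem _ ha) hx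

lemma mem_normalizer_of_forall_conj [Finite G] {H : Subgroup G} {g : G}
    (h : ∀ x ∈ H, g * x * g⁻¹ ∈ H) : g ∈ Subgroup.normalizer (H : Set G) := by
  rw [Subgroup.mem_normalizer_iff_map_conj_eq]
  refine Subgroup.eq_of_le_of_card_ge ?_ ?_
  · rintro y ⟨x, hx, rfl⟩
    exact h x hx
  · rw [Subgroup.card_map_of_injective (MulAut.conj g).injective]

/-- A normaliser element centralising modulo a trivial intersection centralises. -/
lemma mem_centralizer_of_normalizes {A K : Subgroup G} (hinf : A ⊓ K = ⊥)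
    (hAK : A ≤ Subgroup.normalizer (K : Set G)) {c : G} (hc : c ∈ K)
    (h : ∀ a ∈ A, c * a * c⁻¹ ∈ A) : c ∈ Subgroup.centralizer (A : Set G) := by
  rw [Subgroup.mem_centralizer_iff]
  intro a ha
  have h1 : c * a * c⁻¹ * a⁻¹ ∈ A ⊓ K := by
    refine ⟨A.mul_mem (h a ha) (A.inv_mem ha), ?_⟩
    have h2 := K.mul_mem hc (mem_normalizer_conj (hAK ha) (K.inv_mem hc))
    have : c * (a * c⁻¹ * a⁻¹) = c * a * c⁻¹ * a⁻¹ := by group
    rwa [this] at h2
  rw [hinf, Subgroup.mem_bot, mul_inv_eq_one, mul_inv_eq_iff_eq_mul] at h1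
  exact h1.symm

variable [Finite G]

/-- Inside `A ⊔ K`, a subgroup of order prime to `|K|` is conjugate under `K` into `A`. -/
theorem exists_conj_le_of_coprime (A K : Subgroup G) (hAK : A ≤ Subgroup.normalizer (K : Set G))
    (hcop : (Nat.card A).Coprime (Nat.card K)) (U : Subgroup G) (hU : U ≤ A ⊔ K)
    (hUcop : (Nat.card U).Coprime (Nat.card K))
    (hsolv : Group.IsSolvable U ∨ Group.IsSolvable K) :
    ∃ x ∈ K, MulAut.conj x • U ≤ A := by
  let L := A ⊔ K
  haveI hKL : (K.subgroupOf L).Normal :=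
    Subgroup.normal_subgroupOf_of_le_normalizer (sup_le hAK Subgroup.le_normalizer)
  have hinf : K ⊓ A = ⊥ := Subgroup.inf_eq_bot_of_coprime hcop.symm
  have hL : Nat.card L = Nat.card A * Nat.card K := card_sup_of_disjoint hAK hinf
  have hidx : (K.subgroupOf L).index = Nat.card A := by
    have h2 := (K.subgroupOf L).card_mul_index
    rw [card_subgroupOf le_sup_right, hL, mul_comm (Nat.card A)] at h2
    exact Nat.eq_of_mul_eq_mul_left Nat.card_pos h2
  have eK := (Subgroup.subgroupOfEquivOfLe (le_sup_right : K ≤ L))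
  have eU := (Subgroup.subgroupOfEquivOfLe hU)
  obtain ⟨x, hx, hle⟩ := exists_conj_le_complement (K.subgroupOf L)
    (by rw [hidx, card_subgroupOf le_sup_right]; exact hcop.symm) (A.subgroupOf L)
    (by rw [hidx, card_subgroupOf le_sup_left]) (U.subgroupOf L)
    (by rw [card_subgroupOf le_sup_right, card_subgroupOf hU]; exact hUcop.symm)
    (hsolv.symm.imp
      (fun h => @Group.isSolvable_of_surjective _ _ _ _ eK.symm.toMonoidHom eK.symm.surjective h)
      (fun h => @Group.isSolvable_of_surjective _ _ _ _ eU.symm.toMonoidHom eU.symm.surjective h))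
  exact ⟨(x : G), hx, conj_smul_le.2 fun z hz => conj_smul_le.1 hle ⟨z, hU hz⟩ hz⟩

/-- Glauberman's lemma, transitivity part: if `S` contains `A` and a `K`-conjugate of `A`, then the
conjugating element differs by an element of `S` from an element centralising `A`. -/
theorem exists_centralizing_mul_mem (A K : Subgroup G) (hAK : A ≤ Subgroup.normalizer (K : Set G))
    (hcop : (Nat.card A).Coprime (Nat.card K)) (hsolv : Group.IsSolvable A ∨ Group.IsSolvable K)
    (S : Subgroup G) (hAS : A ≤ S) {k : G} (hk : k ∈ K) (hkS : ∀ a ∈ A, k⁻¹ * a * k ∈ S) :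
    ∃ c ∈ K ⊓ Subgroup.centralizer (A : Set G), k⁻¹ * c ∈ S := by
  let M := K ⊓ S
  have hAM : A ≤ Subgroup.normalizer (M : Set G) := Subgroup.le_normalizer_iff.2 fun a ha x hx =>
    ⟨mem_normalizer_conj (hAK ha) hx.1, S.mul_mem (S.mul_mem (hAS ha) hx.2) (S.inv_mem (hAS ha))⟩
  have hdvd : Nat.card M ∣ Nat.card K := Subgroup.card_dvd_of_le inf_le_left
  let B := MulAut.conj k⁻¹ • A
  have hB : B ≤ A ⊔ M := by
    refine conj_smul_le.2 fun a ha => ?_
    rw [inv_inv]
    have h1 : a⁻¹ * (k⁻¹ * a * k) ∈ M := by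
      refine ⟨?_, S.mul_mem (S.inv_mem (hAS ha)) (hkS a ha)⟩
      have h2 := K.mul_mem (mem_normalizer_conj' (hAK ha) (K.inv_mem hk)) hk
      have : a⁻¹ * k⁻¹ * a * k = a⁻¹ * (k⁻¹ * a * k) := by group
      rwa [this] at h2
    have h3 := Subgroup.mul_mem_sup ha h1
    rwa [mul_inv_cancel_left] at h3
  have eB := Subgroup.equivSMul (MulAut.conj k⁻¹) A
  obtain ⟨x, hx, hle⟩ := exists_conj_le_of_coprime A M hAM (hcop.coprime_dvd_right hdvd) B hB
    (by rw [card_conj_smul]; exact hcop.coprime_dvd_right hdvd)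
    (hsolv.imp (fun h => @Group.isSolvable_of_surjective _ _ _ _ eB.toMonoidHom eB.surjective h)
      fun h => @Group.isSolvable_of_isSolvable_injective _ _ _ _
        (Subgroup.inclusion (inf_le_left : M ≤ K)) (Subgroup.inclusion_injective _) h)
  have hy : x * k⁻¹ ∈ K := K.mul_mem hx.1 (K.inv_mem hk)
  have hc : x * k⁻¹ ∈ Subgroup.centralizer (A : Set G) := by
    refine mem_centralizer_of_normalizes (Subgroup.inf_eq_bot_of_coprime hcop) hAK hy fun a ha => ?_
    have h := conj_smul_le.1 hle (k⁻¹ * a * k⁻¹⁻¹) (conj_smul_le.1 le_rfl a ha)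
    simpa [mul_assoc] using h
  refine ⟨(x * k⁻¹)⁻¹, ⟨K.inv_mem hy, Subgroup.inv_mem _ hc⟩, ?_⟩
  have : k⁻¹ * (x * k⁻¹)⁻¹ = x⁻¹ := by group
  rw [this]
  exact S.inv_mem hx.2

/-- Glauberman's lemma, existence part: if every element of `A` lies in `K * S`, then some
`K`-conjugate of `A` lies in `S`. -/
theorem exists_conj_mem_of_forall_mul (A K : Subgroup G) (hAK : A ≤ Subgroup.normalizer (K : Set G))
    (hcop : (Nat.card A).Coprime (Nat.card K)) (hsolv : Group.IsSolvable A ∨ Group.IsSolvable K)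
    (S : Subgroup G) (hS : ∀ a ∈ A, ∃ k ∈ K, k⁻¹ * a ∈ S) :
    ∃ x ∈ K, ∀ a ∈ A, x * a * x⁻¹ ∈ S := by
  let L := A ⊔ K
  let L0 := S ⊓ L
  let M := K ⊓ L0
  have hLK : L ≤ Subgroup.normalizer (K : Set G) := sup_le hAK Subgroup.le_normalizer
  have hL0K : L0 ≤ Subgroup.normalizer (K : Set G) := inf_le_right.trans hLK
  have hsup : L0 ⊔ K = L := by
    refine le_antisymm (sup_le inf_le_right le_sup_right) (sup_le (fun a ha => ?_) le_sup_right)
    obtain ⟨k, hk, hs⟩ := hS a ha
    have h1 : k⁻¹ * a ∈ L0 := ⟨hs, L.mul_mem ((le_sup_right : K ≤ L) (K.inv_mem hk))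
      ((le_sup_left : A ≤ L) ha)⟩
    have h2 := (L0 ⊔ K).mul_mem ((le_sup_right : K ≤ L0 ⊔ K) hk) ((le_sup_left : L0 ≤ L0 ⊔ K) h1)
    rwa [mul_inv_cancel_left] at h2
  have hL0 : Nat.card L0 = Nat.card A * Nat.card M := by
    have h1 := card_sup_mul_card_inf hL0K
    have h2 : Nat.card L = Nat.card A * Nat.card K :=
      card_sup_of_disjoint hAK (Subgroup.inf_eq_bot_of_coprime hcop.symm)
    rw [hsup, h2] at h1
    apply Nat.eq_of_mul_eq_mul_right (Nat.card_pos (α := K))
    rw [← h1]; ring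
  haveI hMn : (M.subgroupOf L0).Normal := by
    apply Subgroup.normal_subgroupOf_of_le_normalizer
    exact Subgroup.le_normalizer_iff.2 fun a ha x hx =>
      ⟨mem_normalizer_conj (hL0K ha) hx.1, L0.mul_mem (L0.mul_mem ha hx.2) (L0.inv_mem ha)⟩
  have hdvd : Nat.card M ∣ Nat.card K := Subgroup.card_dvd_of_le inf_le_left
  have hidx : (M.subgroupOf L0).index = Nat.card A := by
    have h2 := (M.subgroupOf L0).card_mul_index
    rw [card_subgroupOf inf_le_right, hL0, mul_comm (Nat.card A)] at h2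
    exact Nat.eq_of_mul_eq_mul_left Nat.card_pos h2
  obtain ⟨C, hC⟩ := Subgroup.exists_right_complement'_of_coprime (N := M.subgroupOf L0)
    (by rw [hidx, card_subgroupOf inf_le_right]; exact hcop.symm.coprime_dvd_left hdvd)
  let B := C.map L0.subtype
  have hBL0 : B ≤ L0 := Subgroup.map_subtype_le C
  have hB : Nat.card B = Nat.card A := by
    rw [Subgroup.card_subtype, card_eq_index_of_isComplement' hC, hidx]
  have hsB : Group.IsSolvable B ∨ Group.IsSolvable K := hsolv.imp (fun hA => by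
    haveI : (K.subgroupOf L).Normal := Subgroup.normal_subgroupOf_of_le_normalizer hLK
    haveI : Group.IsSolvable (L ⧸ K.subgroupOf L) := by
      refine @Group.isSolvable_of_surjective _ _ _ _
        ((QuotientGroup.mk' (K.subgroupOf L)).comp (Subgroup.inclusion (le_sup_left : A ≤ L))) ?_ hA
      intro y
      obtain ⟨⟨z, hz⟩, rfl⟩ := QuotientGroup.mk'_surjective (K.subgroupOf L) y
      obtain ⟨a, ha, b, hb, rfl⟩ := exists_mul_of_mem_sup hAK hz
      refine ⟨⟨a, ha⟩, ?_⟩
      refine (QuotientGroup.eq).2 ?_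
      show a⁻¹ * (a * b) ∈ K
      rwa [inv_mul_cancel_left]
    refine Group.isSolvable_of_isSolvable_injective
      (f := (QuotientGroup.mk' (K.subgroupOf L)).comp
        (Subgroup.inclusion (hBL0.trans inf_le_right))) ?_
    rw [injective_iff_map_eq_one]
    intro b hb
    rw [MonoidHom.comp_apply, QuotientGroup.mk'_apply, QuotientGroup.eq_one_iff,
      Subgroup.mem_subgroupOf] at hb
    have h1 : (b : G) ∈ B ⊓ K := ⟨b.2, hb⟩
    rw [Subgroup.inf_eq_bot_of_coprime (hB ▸ hcop), Subgroup.mem_bot] at h1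
    exact Subtype.ext h1) id
  obtain ⟨x, hx, hle⟩ := exists_conj_le_of_coprime A K hAK hcop B (hBL0.trans inf_le_right)
    (hB ▸ hcop) hsB
  have he := conj_smul_eq_of_le hle hB.ge
  refine ⟨x⁻¹, K.inv_mem hx, fun a ha => ?_⟩
  rw [← he, mem_conj_smul] at ha
  have := (hBL0 ha).1
  rwa [inv_inv]

/-- Existence part of Glauberman's lemma for an action of the ambient group. -/
theorem exists_fixed_point {Ω : Type*} [MulAction G Ω] (A K : Subgroup G)
    (hAK : A ≤ Subgroup.normalizer (K : Set G))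
    (hcop : (Nat.card A).Coprime (Nat.card K)) (hsolv : Group.IsSolvable A ∨ Group.IsSolvable K)
    (ω : Ω) (h : ∀ a ∈ A, ∃ k ∈ K, k • ω = a • ω) :
    ∃ k ∈ K, ∀ a ∈ A, a • k • ω = k • ω := by
  obtain ⟨x, hx, hS⟩ := exists_conj_mem_of_forall_mul A K hAK hcop hsolv (MulAction.stabilizer G ω)
    fun a ha => by
      obtain ⟨k, hk, he⟩ := h a ha
      exact ⟨k, hk, by rw [MulAction.mem_stabilizer_iff, mul_smul, ← he, inv_smul_smul]⟩
  refine ⟨x⁻¹, K.inv_mem hx, fun a ha => ?_⟩
  have h1 : (x * a * x⁻¹) • ω = ω := hS a ha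
  rw [mul_smul, mul_smul] at h1
  exact eq_inv_smul_iff.2 h1

/-- Transitivity part of Glauberman's lemma for an action of the ambient group. -/
theorem exists_centralizing_smul_eq {Ω : Type*} [MulAction G Ω] (A K : Subgroup G)
    (hAK : A ≤ Subgroup.normalizer (K : Set G))
    (hcop : (Nat.card A).Coprime (Nat.card K)) (hsolv : Group.IsSolvable A ∨ Group.IsSolvable K)
    (ω : Ω) (hω : ∀ a ∈ A, a • ω = ω) {k : G} (hk : k ∈ K) (hkω : ∀ a ∈ A, a • k • ω = k • ω) :
    ∃ c ∈ K ⊓ Subgroup.centralizer (A : Set G), c • ω = k • ω := by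
  obtain ⟨c, hc, hS⟩ := exists_centralizing_mul_mem A K hAK hcop hsolv (MulAction.stabilizer G ω)
    hω hk fun a ha => by
      rw [MulAction.mem_stabilizer_iff, mul_smul, mul_smul, hkω a ha, inv_smul_smul]
  refine ⟨c, hc, ?_⟩
  have h1 : (k⁻¹ * c) • ω = ω := hS
  rwa [mul_smul, inv_smul_eq_iff] at h1

/-- Every coset `k N` of an invariant subgroup `N` of `K` that is fixed by `A` meets the
centraliser of `A`. No normality of `N` is needed. -/
theorem exists_centralizing_rep (A K : Subgroup G) (hAK : A ≤ Subgroup.normalizer (K : Set G))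
    (hcop : (Nat.card A).Coprime (Nat.card K)) (hsolv : Group.IsSolvable A ∨ Group.IsSolvable K)
    (N : Subgroup G) (hNK : N ≤ K) (hNA : A ≤ Subgroup.normalizer (N : Set G))
    {k : G} (hk : k ∈ K) (hfix : ∀ a ∈ A, k⁻¹ * (a * k * a⁻¹) ∈ N) :
    ∃ c ∈ K ⊓ Subgroup.centralizer (A : Set G), k⁻¹ * c ∈ N := by
  obtain ⟨c, hc, hS⟩ := exists_centralizing_mul_mem A K hAK hcop hsolv (A ⊔ N) le_sup_left hk
    fun a ha => by
      have h := (A ⊔ N).mul_mem ((le_sup_right : N ≤ A ⊔ N) (hfix a ha))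
        ((le_sup_left : A ≤ A ⊔ N) ha)
      have e : k⁻¹ * (a * k * a⁻¹) * a = k⁻¹ * a * k := by group
      rwa [e] at h
  refine ⟨c, hc, ?_⟩
  obtain ⟨a, ha, b, hb, hab⟩ := exists_mul_of_mem_sup hNA hS
  have h1 : a ∈ A ⊓ K := ⟨ha, by
    have : a = k⁻¹ * c * b⁻¹ := by rw [hab]; group
    rw [this]
    exact K.mul_mem (K.mul_mem (K.inv_mem hk) hc.1) (K.inv_mem (hNK hb))⟩
  rw [Subgroup.inf_eq_bot_of_coprime hcop, Subgroup.mem_bot] at h1
  rw [hab, h1, one_mul]; exact hb

/-- The centraliser of `A` maps onto the centraliser of the image of `A`. -/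
theorem map_inf_centralizer {G' : Type*} [Group G'] (f : G →* G') (A K : Subgroup G)
    (hAK : A ≤ Subgroup.normalizer (K : Set G))
    (hcop : (Nat.card A).Coprime (Nat.card K)) (hsolv : Group.IsSolvable A ∨ Group.IsSolvable K) :
    (K ⊓ Subgroup.centralizer (A : Set G)).map f =
      K.map f ⊓ Subgroup.centralizer (A.map f : Set G') := by
  refine le_antisymm ?_ ?_
  · rintro _ ⟨x, ⟨hx, hxc⟩, rfl⟩
    refine ⟨Subgroup.mem_map_of_mem f hx, Subgroup.mem_centralizer_iff.2 ?_⟩
    rintro _ ⟨a, ha, rfl⟩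
    rw [← map_mul, ← map_mul, Subgroup.mem_centralizer_iff.1 hxc a ha]
  · rintro _ ⟨⟨k, hk, rfl⟩, hkc⟩
    obtain ⟨c, hc, hN⟩ := exists_centralizing_rep A K hAK hcop hsolv (f.ker ⊓ K) inf_le_right
      (Subgroup.le_normalizer_iff.2 fun a ha x hx =>
        ⟨(f.normal_ker).conj_mem x hx.1 a, mem_normalizer_conj (hAK ha) hx.2⟩) hk fun a ha => by
        refine ⟨?_, K.mul_mem (K.inv_mem hk) (mem_normalizer_conj (hAK ha) hk)⟩
        show k⁻¹ * (a * k * a⁻¹) ∈ f.ker
        have h := Subgroup.mem_centralizer_iff.1 hkc (f a) (Subgroup.mem_map_of_mem f ha)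
        rw [MonoidHom.mem_ker, map_mul, map_mul, map_mul, h, map_inv, map_inv,
          mul_inv_cancel_right, inv_mul_cancel]
    refine ⟨c, hc, ?_⟩
    have h : k⁻¹ * c ∈ f.ker := hN.1
    rw [MonoidHom.mem_ker, map_mul, map_inv, inv_mul_eq_one] at h
    exact h.symm

omit [Finite G] in
lemma mem_map_subtype_smul {K : Subgroup G} {p : ℕ} {P : Sylow p K} {k : K} {x : G} :
    x ∈ ((k • P : Sylow p K) : Subgroup K).map K.subtype ↔
      (k : G)⁻¹ * x * k ∈ (P : Subgroup K).map K.subtype := by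
  rw [Sylow.coe_subgroup_smul]
  constructor
  · rintro ⟨y, hy, rfl⟩
    exact ⟨k⁻¹ * y * k, mem_conj_smul.1 hy, rfl⟩
  · rintro ⟨y, hy, he⟩
    have hy' : k⁻¹ * (k * y * k⁻¹) * k ∈ (P : Subgroup K) := by
      have e : k⁻¹ * (k * y * k⁻¹) * k = y := by group
      rw [e]; exact hy
    refine ⟨k * y * k⁻¹, mem_conj_smul.2 hy', ?_⟩
    simp only [Subgroup.coe_subtype, Subgroup.coe_mul, Subgroup.coe_inv] at he ⊢
    rw [he]; group

/-- Conjugates of Sylow subgroups of a normalised subgroup by outside elements. -/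
lemma exists_conj_sylow {p : ℕ} [Fact p.Prime] {K : Subgroup G} (P : Sylow p K) {a : G}
    (ha : a ∈ Subgroup.normalizer (K : Set G)) :
    ∃ k : K, MulAut.conj a • (P : Subgroup K).map K.subtype =
      MulAut.conj (k : G) • (P : Subgroup K).map K.subtype := by
  let P' := (P : Subgroup K).map K.subtype
  have hP' : MulAut.conj a • P' ≤ K :=
    conj_smul_le.2 fun x hx => mem_normalizer_conj ha (Subgroup.map_subtype_le _ hx)
  let Q : Sylow p K := Sylow.ofCard ((MulAut.conj a • P').subgroupOf K)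
    (by rw [card_subgroupOf hP', card_conj_smul, Subgroup.card_subtype, P.card_eq_multiplicity])
  obtain ⟨k, hk⟩ := MulAction.exists_smul_eq K P Q
  refine ⟨k, ?_⟩
  ext x
  rw [mem_conj_smul (g := (k : G)), ← mem_map_subtype_smul (P := P) (k := k), hk]
  show _ ↔ x ∈ ((MulAut.conj a • P').subgroupOf K).map K.subtype
  rw [Subgroup.map_subgroupOf_eq_of_le hP']

/-- Coprime action: an invariant Sylow subgroup exists. -/
theorem exists_invariant_sylow (A K : Subgroup G) (hAK : A ≤ Subgroup.normalizer (K : Set G))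
    (hcop : (Nat.card A).Coprime (Nat.card K)) (hsolv : Group.IsSolvable A ∨ Group.IsSolvable K)
    (p : ℕ) [Fact p.Prime] :
    ∃ P : Sylow p K, A ≤ Subgroup.normalizer ((P : Subgroup K).map K.subtype : Set G) := by
  obtain ⟨P⟩ : Nonempty (Sylow p K) := inferInstance
  let P' := (P : Subgroup K).map K.subtype
  obtain ⟨x, hx, hS⟩ := exists_conj_mem_of_forall_mul A K hAK hcop hsolv
    (Subgroup.normalizer (P' : Set G)) fun a ha => by
      obtain ⟨k, hk⟩ := exists_conj_sylow P (hAK ha)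
      refine ⟨k, k.2, mem_normalizer_of_forall_conj fun y hy => ?_⟩
      have h1 : a * y * a⁻¹ ∈ MulAut.conj a • P' := conj_smul_le.1 le_rfl y hy
      rw [hk, mem_conj_smul] at h1
      simpa only [mul_assoc, mul_inv_rev, inv_inv, inv_mul_cancel_left, mul_inv_cancel_left, inv_mul_cancel, mul_inv_cancel, mul_one, one_mul, Subgroup.coe_inv, Subgroup.coe_mul, Subgroup.coe_subtype] using h1
  refine ⟨(⟨x, hx⟩ : K)⁻¹ • P, Subgroup.le_normalizer_iff.2 fun a ha y hy => ?_⟩
  rw [mem_map_subtype_smul] at hy ⊢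
  have := mem_normalizer_conj (hS a ha) hy
  simpa only [mul_assoc, mul_inv_rev, inv_inv, inv_mul_cancel_left, mul_inv_cancel_left, inv_mul_cancel, mul_inv_cancel, mul_one, one_mul, Subgroup.coe_inv, Subgroup.coe_mul, Subgroup.coe_subtype] using this

/-- Coprime action: invariant Sylow subgroups are conjugate under the centraliser. -/
theorem invariant_sylow_conj (A K : Subgroup G) (hAK : A ≤ Subgroup.normalizer (K : Set G))
    (hcop : (Nat.card A).Coprime (Nat.card K)) (hsolv : Group.IsSolvable A ∨ Group.IsSolvable K)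
    (p : ℕ) [Fact p.Prime] (P Q : Sylow p K)
    (hP : A ≤ Subgroup.normalizer ((P : Subgroup K).map K.subtype : Set G))
    (hQ : A ≤ Subgroup.normalizer ((Q : Subgroup K).map K.subtype : Set G)) :
    ∃ c : K, (c : G) ∈ Subgroup.centralizer (A : Set G) ∧ c • P = Q := by
  obtain ⟨k, rfl⟩ := MulAction.exists_smul_eq K P Q
  let P' := (P : Subgroup K).map K.subtype
  obtain ⟨c, ⟨hcK, hcC⟩, hS⟩ := exists_centralizing_mul_mem A K hAK hcop hsolv
    (Subgroup.normalizer (P' : Set G)) hP k.2 fun a ha => by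
      refine mem_normalizer_of_forall_conj fun y hy => ?_
      have h1 : (k : G) * y * (k : G)⁻¹ ∈ ((k • P : Sylow p K) : Subgroup K).map K.subtype := by
        rw [mem_map_subtype_smul]; simpa only [mul_assoc, mul_inv_rev, inv_inv, inv_mul_cancel_left, mul_inv_cancel_left, inv_mul_cancel, mul_inv_cancel, mul_one, one_mul, Subgroup.coe_inv, Subgroup.coe_mul, Subgroup.coe_subtype] using hy
      have h2 := mem_normalizer_conj (hQ ha) h1
      rw [mem_map_subtype_smul] at h2
      simpa only [mul_assoc, mul_inv_rev, inv_inv, inv_mul_cancel_left, mul_inv_cancel_left, inv_mul_cancel, mul_inv_cancel, mul_one, one_mul, Subgroup.coe_inv, Subgroup.coe_mul, Subgroup.coe_subtype] using h2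
  refine ⟨⟨c, hcK⟩, hcC, ?_⟩
  apply Sylow.ext
  apply Subgroup.map_injective K.subtype_injective
  ext y
  rw [mem_map_subtype_smul, mem_map_subtype_smul]
  constructor
  · intro h
    have := mem_normalizer_conj hS h
    simpa only [mul_assoc, mul_inv_rev, inv_inv, inv_mul_cancel_left, mul_inv_cancel_left, inv_mul_cancel, mul_inv_cancel, mul_one, one_mul, Subgroup.coe_inv, Subgroup.coe_mul, Subgroup.coe_subtype] using this
  · intro h
    have := mem_normalizer_conj' hS h
    simpa only [mul_assoc, mul_inv_rev, inv_inv, inv_mul_cancel_left, mul_inv_cancel_left, inv_mul_cancel, mul_inv_cancel, mul_one, one_mul, Subgroup.coe_inv, Subgroup.coe_mul, Subgroup.coe_subtype] using this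

/-- Coprime action: an invariant `p`-subgroup lies in an invariant Sylow subgroup. -/
theorem exists_invariant_sylow_ge (A K : Subgroup G) (hAK : A ≤ Subgroup.normalizer (K : Set G))
    (hcop : (Nat.card A).Coprime (Nat.card K)) (hsolv : Group.IsSolvable A ∨ Group.IsSolvable K)
    (p : ℕ) [Fact p.Prime] (U : Subgroup G) (hUK : U ≤ K) (hU : IsPGroup p U)
    (hUA : A ≤ Subgroup.normalizer (U : Set G)) :
    ∃ P : Sylow p K, U ≤ (P : Subgroup K).map K.subtype ∧
      A ≤ Subgroup.normalizer ((P : Subgroup K).map K.subtype : Set G) := by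
  obtain ⟨V, hUV, hV⟩ := (Set.toFinite {V : Subgroup G | V ≤ K ∧ IsPGroup p V ∧
    A ≤ Subgroup.normalizer (V : Set G)}).exists_le_maximal (a := U) ⟨hUK, hU, hUA⟩
  obtain ⟨⟨hVK, hVp, hVA⟩, hmax⟩ := hV
  let M := K ⊓ Subgroup.normalizer (V : Set G)
  have hAM : A ≤ Subgroup.normalizer (M : Set G) := Subgroup.le_normalizer_iff.2 fun a ha x hx =>
    ⟨mem_normalizer_conj (hAK ha) hx.1,
      Subgroup.mul_mem _ (Subgroup.mul_mem _ (hVA ha) hx.2) (Subgroup.inv_mem _ (hVA ha))⟩
  have hdvd : Nat.card M ∣ Nat.card K := Subgroup.card_dvd_of_le inf_le_left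
  obtain ⟨P0, hP0⟩ := exists_invariant_sylow A M hAM (hcop.coprime_dvd_right hdvd)
    (hsolv.imp id fun h => @Group.isSolvable_of_isSolvable_injective _ _ _ _
      (Subgroup.inclusion (inf_le_left : M ≤ K)) (Subgroup.inclusion_injective _) h) p
  have hVM : V ≤ M := le_inf hVK Subgroup.le_normalizer
  haveI : (V.subgroupOf M).Normal :=
    Subgroup.normal_subgroupOf_of_le_normalizer inf_le_right
  have hVpM : IsPGroup p (V.subgroupOf M) := hVp.comap_subtype
  have hVP0 : V.subgroupOf M ≤ (P0 : Subgroup M) := hVpM.le_sylow_of_normal P0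
  let P0' := (P0 : Subgroup M).map M.subtype
  have hle : V ≤ P0' := fun v hv => ⟨⟨v, hVM hv⟩, hVP0 hv, rfl⟩
  have hP0V : P0' ≤ V :=
    hmax ⟨(Subgroup.map_subtype_le _).trans inf_le_left, P0.isPGroup'.map _, hP0⟩ hle
  have hcardV : Nat.card V = p ^ (Nat.card M).factorization p := by
    rw [le_antisymm hle hP0V, Subgroup.card_subtype, P0.card_eq_multiplicity]
  let VK := V.subgroupOf K
  have hVKn : VK.map K.subtype = V := Subgroup.map_subgroupOf_eq_of_le hVK
  have hfull : Nat.card VK = p ^ (Nat.card K).factorization p := by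
    rw [card_subgroupOf hVK, hcardV]
    congr 1
    refine le_antisymm ?_ ?_
    · exact (Nat.factorization_le_iff_dvd Nat.card_pos.ne' Nat.card_pos.ne').2 hdvd p
    · by_contra hlt
      push Not at hlt
      have h1 : p ^ ((Nat.card M).factorization p + 1) ∣ Nat.card K :=
        (pow_dvd_pow p hlt).trans (Nat.ordProj_dvd _ _)
      have h2 := Sylow.prime_pow_dvd_card_normalizer h1
        (H := VK) (by rw [card_subgroupOf hVK, hcardV])
      have h3 : Nat.card (Subgroup.normalizer (VK : Set K)) ∣ Nat.card M := by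
        have hle' : (Subgroup.normalizer (VK : Set K)).map K.subtype ≤ M := by
          refine le_inf (Subgroup.map_subtype_le _) ?_
          have h4 := Subgroup.le_normalizer_map (H := VK) K.subtype
          rwa [hVKn] at h4
        rw [← Subgroup.card_subtype K]
        exact Subgroup.card_dvd_of_le hle'
      exact Nat.pow_succ_factorization_not_dvd Nat.card_pos.ne' Fact.out (h2.trans h3)
  refine ⟨Sylow.ofCard VK hfull, ?_, ?_⟩
  · show U ≤ VK.map K.subtype
    rw [hVKn]; exact hUV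
  · show A ≤ Subgroup.normalizer (VK.map K.subtype : Set G)
    rw [hVKn]; exact hVA

end CfsgLib.Coprime
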