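import Cfsg.Agent.Lib.Coprime.Action

/-!
Coprime action, commutator consequences: `K = [K,A] C_K(A)`, `[K,A,A] = [K,A]`, series
centralised by `A`, Burnside's theorem on the Frattini quotient, Thompson's P × Q lemma, and the
decomposition of abelian groups.
-/

set_option autoImplicit false
set_option linter.style.haveILetI false
open Pointwise
open scoped commutatorElement

namespace CfsgLib.Coprime

universe u

variable {G : Type u} [Group G]

/-- A subgroup normalises its commutator with any other subgroup. -/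
lemma le_normalizer_commutator_left (K A : Subgroup G) :
    K ≤ Subgroup.normalizer ((⁅K, A⁆ : Subgroup G) : Set G) := by
  rw [Subgroup.commutator_def, Subgroup.le_normalizer_closure_iff]
  rintro h hh _ ⟨x, hx, a, ha, rfl⟩
  rw [← Subgroup.commutator_def]
  have e : h * ⁅x, a⁆ * h⁻¹ = ⁅h * x, a⁆ * ⁅h, a⁆⁻¹ := by
    simp only [commutatorElement_def]; group
  rw [e]
  exact Subgroup.mul_mem _ (Subgroup.commutator_mem_commutator (K.mul_mem hh hx) ha)
    (Subgroup.inv_mem _ (Subgroup.commutator_mem_commutator hh ha))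

lemma le_normalizer_commutator_right (K A : Subgroup G) :
    A ≤ Subgroup.normalizer ((⁅K, A⁆ : Subgroup G) : Set G) := by
  rw [Subgroup.commutator_comm]
  exact le_normalizer_commutator_left A K

lemma commutator_le_of_normalizes {K A : Subgroup G} (hAK : A ≤ Subgroup.normalizer (K : Set G)) :
    ⁅K, A⁆ ≤ K :=
  Subgroup.commutator_le.2 fun x hx a ha => by
    have e : ⁅x, a⁆ = x * (a * x⁻¹ * a⁻¹) := by simp only [commutatorElement_def]; group
    rw [e]
    exact K.mul_mem hx (mem_normalizer_conj (hAK ha) (K.inv_mem hx))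

lemma conj_eq_of_mem_centralizer {A : Subgroup G} {c a : G}
    (hc : c ∈ Subgroup.centralizer (A : Set G)) (ha : a ∈ A) : a * c * a⁻¹ = c := by
  rw [Subgroup.mem_centralizer_iff.1 hc a ha, mul_inv_cancel_right]

variable [Finite G]

/-- Coprime action: `K = [K,A] C_K(A)`. -/
theorem commutator_sup_centralizer (A K : Subgroup G) (hAK : A ≤ Subgroup.normalizer (K : Set G))
    (hcop : (Nat.card A).Coprime (Nat.card K)) (hsolv : Group.IsSolvable A ∨ Group.IsSolvable K) :
    ⁅K, A⁆ ⊔ (K ⊓ Subgroup.centralizer (A : Set G)) = K := by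
  refine le_antisymm (sup_le (commutator_le_of_normalizes hAK) inf_le_left) fun k hk => ?_
  obtain ⟨c, hc, hN⟩ := exists_centralizing_rep A K hAK hcop hsolv ⁅K, A⁆
    (commutator_le_of_normalizes hAK) (le_normalizer_commutator_right K A) hk fun a ha => by
      have h := Subgroup.commutator_mem_commutator (K.inv_mem hk) ha
      have e : ⁅k⁻¹, a⁆ = k⁻¹ * (a * k * a⁻¹) := by simp only [commutatorElement_def]; group
      rwa [e] at h
  have h := (⁅K, A⁆ ⊔ (K ⊓ Subgroup.centralizer (A : Set G))).mul_mem (Subgroup.mem_sup_right hc)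
    (Subgroup.mem_sup_left (Subgroup.inv_mem _ hN))
  rwa [show c * (k⁻¹ * c)⁻¹ = k by group] at h

/-- Coprime action: `[K,A,A] = [K,A]`. -/
theorem commutator_commutator_eq (A K : Subgroup G) (hAK : A ≤ Subgroup.normalizer (K : Set G))
    (hcop : (Nat.card A).Coprime (Nat.card K)) (hsolv : Group.IsSolvable A ∨ Group.IsSolvable K) :
    ⁅⁅K, A⁆, A⁆ = ⁅K, A⁆ := by
  refine le_antisymm (Subgroup.commutator_mono (commutator_le_of_normalizes hAK) le_rfl) ?_
  refine Subgroup.commutator_le.2 fun k hk a ha => ?_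
  have hk' : k ∈ ⁅K, A⁆ ⊔ (K ⊓ Subgroup.centralizer (A : Set G)) := by
    rwa [commutator_sup_centralizer A K hAK hcop hsolv]
  rw [sup_comm] at hk'
  obtain ⟨c, hc, u, hu, rfl⟩ := exists_mul_of_mem_sup
    (inf_le_left.trans (le_normalizer_commutator_left K A)) hk'
  have hu' : c * u * c⁻¹ ∈ ⁅K, A⁆ :=
    mem_normalizer_conj (le_normalizer_commutator_left K A hc.1) hu
  have e : ⁅c * u, a⁆ = ⁅c * u * c⁻¹, a⁆ := by
    have hac := conj_eq_of_mem_centralizer hc.2 ha
    have hcc : c * a * c⁻¹ = a := by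
      rw [mul_inv_eq_iff_eq_mul, Subgroup.mem_centralizer_iff.1 hc.2 a ha]
    calc ⁅c * u, a⁆ = c * ⁅u, a⁆ * c⁻¹ * ⁅c, a⁆ := commutatorElement_mul_left_eq_conj_mul c u a
      _ = c * ⁅u, a⁆ * c⁻¹ := by
          rw [commutatorElement_def c a, hcc, mul_inv_cancel, mul_one]
      _ = ⁅c * u * c⁻¹, c * a * c⁻¹⁆ := conjugate_commutatorElement _ _ _
      _ = _ := by rw [hcc]
  rw [e]
  exact Subgroup.commutator_mem_commutator hu' ha

/-- Coprime action: if `A` centralises an invariant subgroup `N` of `K` and every coset of `N`,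
then `A` centralises `K`. -/
theorem le_centralizer_of_trivial_on_series (A K : Subgroup G)
    (hAK : A ≤ Subgroup.normalizer (K : Set G))
    (hcop : (Nat.card A).Coprime (Nat.card K)) (hsolv : Group.IsSolvable A ∨ Group.IsSolvable K)
    (N : Subgroup G) (hNK : N ≤ K) (hN : A ≤ Subgroup.centralizer (N : Set G))
    (hfix : ∀ a ∈ A, ∀ k ∈ K, k⁻¹ * (a * k * a⁻¹) ∈ N) :
    A ≤ Subgroup.centralizer (K : Set G) := by
  rw [Subgroup.le_centralizer_iff] at hN ⊢
  have hNA : A ≤ Subgroup.normalizer (N : Set G) := Subgroup.le_normalizer_iff.2 fun a ha x hx => by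
    rwa [conj_eq_of_mem_centralizer (hN hx) ha]
  intro k hk
  obtain ⟨c, hc, hcN⟩ :=
    exists_centralizing_rep A K hAK hcop hsolv N hNK hNA hk fun a ha => hfix a ha k hk
  have h := Subgroup.mul_mem _ hc.2 (Subgroup.inv_mem _ (hN hcN))
  rwa [show c * (k⁻¹ * c)⁻¹ = k by group] at h

/-- Coprime action: `[K,A,A] = 1` forces `[K,A] = 1`. -/
theorem commutator_eq_bot_of_commutator_commutator_eq_bot (A K : Subgroup G)
    (hAK : A ≤ Subgroup.normalizer (K : Set G))
    (hcop : (Nat.card A).Coprime (Nat.card K)) (hsolv : Group.IsSolvable A ∨ Group.IsSolvable K)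
    (h : ⁅⁅K, A⁆, A⁆ = ⊥) : ⁅K, A⁆ = ⊥ := by
  rw [← commutator_commutator_eq A K hAK hcop hsolv, h]

/-- A group that centralises, Sylow subgroup by Sylow subgroup, is contained in the centraliser. -/
lemma le_of_forall_sylow_le {A C : Subgroup G}
    (h : ∀ (p : ℕ), p.Prime → ∀ Q : Sylow p A, (Q : Subgroup A).map A.subtype ≤ C) : A ≤ C := by
  have hdvd : Nat.card A ∣ Nat.card (A ⊓ C : Subgroup G) := by
    rw [← Nat.factorization_le_iff_dvd Nat.card_pos.ne' Nat.card_pos.ne']
    intro p
    by_cases hp : p.Prime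
    · haveI := Fact.mk hp
      obtain ⟨Q⟩ : Nonempty (Sylow p A) := inferInstance
      have h1 : p ^ (Nat.card A).factorization p ∣ Nat.card (A ⊓ C : Subgroup G) := by
        rw [← Q.card_eq_multiplicity, ← Subgroup.card_subtype A]
        exact Subgroup.card_dvd_of_le (le_inf (Subgroup.map_subtype_le _) (h p hp Q))
      exact (hp.pow_dvd_iff_le_factorization Nat.card_pos.ne').1 h1
    · simp [Nat.factorization_eq_zero_of_not_prime _ hp]
  have he : A ⊓ C = A :=
    Subgroup.eq_of_le_of_card_ge inf_le_left (Nat.le_of_dvd Nat.card_pos hdvd)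
  exact he ▸ inf_le_right

/-- Burnside: a group whose order is prime to `|Φ(K)|` and which acts trivially on `K / Φ(K)` acts
trivially on `K`. -/
theorem le_centralizer_of_trivial_on_frattini (A K : Subgroup G)
    (hAK : A ≤ Subgroup.normalizer (K : Set G))
    (hcop : (Nat.card A).Coprime (Nat.card (frattini K)))
    (htriv : ∀ a ∈ A, ∀ k ∈ K, a * k * a⁻¹ * k⁻¹ ∈ (frattini K).map K.subtype) :
    A ≤ Subgroup.centralizer (K : Set G) := by
  refine le_of_forall_sylow_le fun p hp Q => ?_
  haveI := Fact.mk hp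
  let A' := (Q : Subgroup A).map A.subtype
  have hA' : A' ≤ A := Subgroup.map_subtype_le _
  have hA'p : IsPGroup p A' := Q.isPGroup'.map _
  by_cases hbot : A' = ⊥
  · show A' ≤ _
    rw [hbot]; exact bot_le
  obtain ⟨m, hm⟩ := hA'p.exists_card_eq
  have hm0 : m ≠ 0 := by
    rintro rfl
    exact hbot (Subgroup.card_eq_one.1 (by rw [hm, pow_zero]))
  have hpΦ : ¬ p ∣ Nat.card (frattini K) := by
    intro hdvd
    have h1 : p ∣ Nat.card A := (hm ▸ dvd_pow_self p hm0).trans (Subgroup.card_dvd_of_le hA')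
    exact hp.not_dvd_one (hcop ▸ Nat.dvd_gcd h1 hdvd)
  let Φ := (frattini K).map K.subtype
  have hΦ : ∀ {x : K}, (x : G) ∈ Φ → x ∈ frattini K := fun {x} h => by
    obtain ⟨y, hy, he⟩ := h
    exact (K.subtype_injective he) ▸ hy
  let C : Subgroup K := (Subgroup.centralizer (A' : Set G)).subgroupOf K
  have hC : C ⊔ frattini K = ⊤ := by
    rw [eq_top_iff]
    intro k _
    let Ω := {x : K // k⁻¹ * x ∈ frattini K}
    have hstep : ∀ (a : A') (x : Ω), ∃ h : (a : G) * x.1 * (a : G)⁻¹ ∈ K,
        k⁻¹ * (⟨_, h⟩ : K) ∈ frattini K := by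
      intro a x
      have h : (a : G) * x.1 * (a : G)⁻¹ ∈ K := mem_normalizer_conj (hAK (hA' a.2)) x.1.2
      refine ⟨h, ?_⟩
      have h1 : (⟨_, h⟩ * x.1⁻¹ : K) ∈ frattini K := hΦ (htriv _ (hA' a.2) _ x.1.2)
      have h2 := (frattini K).mul_mem
        ((inferInstance : (frattini K).Normal).conj_mem _ h1 k⁻¹) x.2
      simpa [mul_assoc] using h2
    letI : MulAction A' Ω :=
      { smul := fun a x => ⟨⟨_, (hstep a x).1⟩, (hstep a x).2⟩
        one_smul := fun x => by
          apply Subtype.ext; apply Subtype.ext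
          show (1 : G) * x.1 * (1 : G)⁻¹ = x.1
          simp
        mul_smul := fun a b x => by
          apply Subtype.ext; apply Subtype.ext
          show ((a * b : A') : G) * x.1 * ((a * b : A') : G)⁻¹ =
            (a : G) * ((b : G) * x.1 * (b : G)⁻¹) * (a : G)⁻¹
          simp [mul_assoc] }
    have hcard : Nat.card Ω = Nat.card (frattini K) :=
      Nat.card_congr ((Equiv.mulLeft k⁻¹).subtypeEquiv fun x => Iff.rfl)
    obtain ⟨x, hx⟩ := hA'p.nonempty_fixed_point_of_prime_not_dvd_card Ω (hcard ▸ hpΦ)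
    have hxC : x.1 ∈ C := by
      rw [Subgroup.mem_subgroupOf, Subgroup.mem_centralizer_iff]
      intro a ha
      have h1 : a * (x.1 : G) * a⁻¹ = (x.1 : G) :=
        congrArg (fun y : Ω => (y.1 : G)) (hx ⟨a, ha⟩)
      exact mul_inv_eq_iff_eq_mul.1 h1
    have h3 := Subgroup.mul_mem_sup hxC ((frattini K).inv_mem x.2)
    rwa [show x.1 * (k⁻¹ * x.1)⁻¹ = k by group] at h3
  have hCtop : C = ⊤ := frattini_nongenerating hC
  show A' ≤ _
  rw [Subgroup.le_centralizer_iff]
  intro k hk
  have h4 : (⟨k, hk⟩ : K) ∈ C := hCtop ▸ Subgroup.mem_top _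
  exact h4

/-- A nontrivial `p`-subgroup normalised by a `p`-subgroup is strictly larger than their
commutator. -/
lemma commutator_lt_of_isPGroup {p : ℕ} [Fact p.Prime] {U P : Subgroup G} (hU : IsPGroup p U)
    (hP : IsPGroup p P) (hPU : P ≤ Subgroup.normalizer (U : Set G)) (hne : U ≠ ⊥) :
    ⁅U, P⁆ < U := by
  refine lt_of_le_of_ne (commutator_le_of_normalizes hPU) fun he => hne ?_
  let T := P ⊔ U
  have hT : IsPGroup p T := IsPGroup.to_sup_of_normal_right' hP hU hPU
  haveI := hT.isNilpotent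
  obtain ⟨n, hn⟩ := Subgroup.nilpotent_iff_lowerCentralSeries.1 (inferInstance : Group.IsNilpotent T)
  have hall : ∀ i, U.subgroupOf T ≤ (⊤ : Subgroup T).lowerCentralSeries i := by
    intro i
    induction i with
    | zero => exact le_top
    | succ i ih =>
      have h1 : U.subgroupOf T ≤ ⁅U.subgroupOf T, (⊤ : Subgroup T)⁆ := by
        refine (Subgroup.map_subtype_le_map_subtype).1 ?_
        rw [Subgroup.map_commutator, Subgroup.map_subgroupOf_eq_of_le le_sup_right,
          ← MonoidHom.range_eq_map, Subgroup.range_subtype]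
        exact he.ge.trans (Subgroup.commutator_mono le_rfl le_sup_left)
      exact h1.trans (Subgroup.commutator_mono ih le_rfl)
  have h2 := hall n
  rw [hn, le_bot_iff] at h2
  have h3 : (U.subgroupOf T).map T.subtype = ⊥ := by rw [h2, Subgroup.map_bot]
  rwa [Subgroup.map_subgroupOf_eq_of_le le_sup_right] at h3

/-- Thompson's P × Q lemma. -/
theorem pq_lemma (p : ℕ) [Fact p.Prime] (P Q : Subgroup G) (hP : IsPGroup p P)
    (hQ : (Nat.card Q).Coprime p) (hPQ : P ≤ Subgroup.centralizer (Q : Set G)) :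
    ∀ U : Subgroup G, IsPGroup p U → P ≤ Subgroup.normalizer (U : Set G) →
      Q ≤ Subgroup.normalizer (U : Set G) →
      U ⊓ Subgroup.centralizer (P : Set G) ≤ Subgroup.centralizer (Q : Set G) →
      Q ≤ Subgroup.centralizer (U : Set G) := by
  intro U
  induction U using (wellFounded_lt (α := Subgroup G)).induction with
  | _ U ih =>
    intro hU hPU hQU hC
    by_cases hne : U = ⊥
    · subst hne
      intro q _
      rw [Subgroup.mem_centralizer_iff]
      intro x hx
      rw [Subgroup.coe_bot, Set.mem_singleton_iff] at hx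
      simp [hx]
    haveI : Group.IsSolvable U := by
      haveI := hU.isNilpotent
      infer_instance
    have hcop : (Nat.card Q).Coprime (Nat.card U) := by
      obtain ⟨n, hn⟩ := hU.exists_card_eq
      rw [hn]; exact hQ.pow_right _
    have hW := commutator_lt_of_isPGroup hU hP hPU hne
    have hQW : Q ≤ Subgroup.normalizer ((⁅U, P⁆ : Subgroup G) : Set G) := by
      rw [Subgroup.commutator_def, Subgroup.le_normalizer_closure_iff]
      rintro q hq _ ⟨x, hx, a, ha, rfl⟩
      rw [← Subgroup.commutator_def]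
      have hqa : q * a * q⁻¹ = a := by
        rw [Subgroup.mem_centralizer_iff.1 (hPQ ha) q hq, mul_inv_cancel_right]
      rw [conjugate_commutatorElement, hqa]
      exact Subgroup.commutator_mem_commutator (mem_normalizer_conj (hQU hq) hx) ha
    have hcW : Q ≤ Subgroup.centralizer ((⁅U, P⁆ : Subgroup G) : Set G) :=
      ih ⁅U, P⁆ hW (hU.to_le hW.le) (le_normalizer_commutator_right U P) hQW
        ((inf_le_inf_right _ hW.le).trans hC)
    have h1 : ⁅⁅U, P⁆, Q⁆ = ⊥ :=
      Subgroup.commutator_eq_bot_iff_le_centralizer.2 (Subgroup.le_centralizer_iff.1 hcW)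
    have h2 : ⁅⁅P, Q⁆, U⁆ = ⊥ := by
      rw [Subgroup.commutator_eq_bot_iff_le_centralizer.2 hPQ,
        Subgroup.commutator_eq_bot_iff_le_centralizer]
      exact bot_le
    have h3 : ⁅⁅Q, U⁆, P⁆ = ⊥ := Subgroup.commutator_commutator_eq_bot_of_rotate h1 h2
    rw [Subgroup.commutator_comm Q U, Subgroup.commutator_eq_bot_iff_le_centralizer] at h3
    have h4 : ⁅⁅U, Q⁆, Q⁆ = ⊥ := Subgroup.commutator_eq_bot_iff_le_centralizer.2
      ((le_inf (commutator_le_of_normalizes hQU) h3).trans hC)
    have h5 := commutator_eq_bot_of_commutator_commutator_eq_bot Q U hQU hcop (Or.inr inferInstance) h4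
    rw [Subgroup.commutator_eq_bot_iff_le_centralizer] at h5
    exact Subgroup.le_centralizer_iff.1 h5

/-- Coprime action on an abelian group: `[V,A]` meets `C_V(A)` trivially. -/
theorem commutator_inf_centralizer_eq_bot (A V : Subgroup G) [IsMulCommutative V]
    (hAV : A ≤ Subgroup.normalizer (V : Set G))
    (hcop : (Nat.card A).Coprime (Nat.card V)) :
    ⁅V, A⁆ ⊓ Subgroup.centralizer (A : Set G) = ⊥ := by
  classical
  haveI := Fintype.ofFinite A
  letI : CommGroup V :=
    { (inferInstance : Group V) with mul_comm := fun a b => (IsMulCommutative.is_comm).comm a b }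
  let cj : A → V → V := fun a v => ⟨(a : G) * v * (a : G)⁻¹, mem_normalizer_conj (hAV a.2) v.2⟩
  let θ : V →* V := MonoidHom.mk' (fun v => ∏ a : A, cj a v) fun u v => by
    rw [← Finset.prod_mul_distrib]
    exact Finset.prod_congr rfl fun a _ => Subtype.ext (by simp [cj, mul_assoc])
  have hker : ⁅V, A⁆ ≤ (θ.ker).map V.subtype := by
    refine Subgroup.commutator_le.2 fun v hv b hb => ?_
    let v' : V := ⟨v, hv⟩
    let b' : A := ⟨b, hb⟩
    refine ⟨v' * (cj b' v')⁻¹, ?_, ?_⟩
    · have h1 : θ (cj b' v') = θ v' :=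
        Fintype.prod_equiv (Equiv.mulRight b') (fun a => cj a (cj b' v')) (fun a => cj a v')
          fun a => Subtype.ext (by simp [cj, mul_assoc])
      show v' * (cj b' v')⁻¹ ∈ θ.ker
      rw [MonoidHom.mem_ker, map_mul, map_inv, h1, mul_inv_cancel]
    · simp only [Subgroup.coe_subtype, Subgroup.coe_mul, Subgroup.coe_inv, commutatorElement_def,
        v', b', cj]
      group
  rw [eq_bot_iff]
  rintro x ⟨hx, hxC⟩
  obtain ⟨v, hv, rfl⟩ := hker hx
  have h1 : θ v = v ^ Nat.card A := by
    show ∏ a : A, cj a v = _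
    rw [Finset.prod_congr rfl (fun (a : A) _ =>
      Subtype.ext (conj_eq_of_mem_centralizer hxC a.2) : ∀ a ∈ Finset.univ, cj a v = v),
      Finset.prod_const, Finset.card_univ, Nat.card_eq_fintype_card]
  have h2 : (powCoprime hcop.symm) v = (powCoprime hcop.symm) 1 := by
    rw [powCoprime_apply, powCoprime_apply, one_pow, ← h1]
    exact hv
  rw [Subgroup.mem_bot, (powCoprime hcop.symm).injective h2]
  rfl

end CfsgLib.Coprime
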