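import Mathlib

/-!
Small facts about conjugates, cards of joins and images, used by the coprime action library.
-/

set_option autoImplicit false
open Pointwise

namespace CfsgLib.Coprime

variable {G : Type*} [Group G]

lemma mem_conj_smul {H : Subgroup G} {g x : G} :
    x ∈ MulAut.conj g • H ↔ g⁻¹ * x * g ∈ H := by
  rw [Subgroup.mem_pointwise_smul_iff_inv_smul_mem]
  simp [MulAut.smul_def, MulAut.conj_inv_apply]

lemma conj_smul_le {H K : Subgroup G} {g : G} :
    MulAut.conj g • H ≤ K ↔ ∀ h ∈ H, g * h * g⁻¹ ∈ K := by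
  constructor
  · intro h x hx
    apply h
    rw [mem_conj_smul]
    simpa [mul_assoc] using hx
  · intro h x hx
    rw [mem_conj_smul] at hx
    simpa [mul_assoc] using h _ hx

lemma card_conj_smul (H : Subgroup G) (g : G) :
    Nat.card (MulAut.conj g • H : Subgroup G) = Nat.card H :=
  (Nat.card_congr (Subgroup.equivSMul (MulAut.conj g) H).toEquiv).symm

lemma conj_smul_eq_of_le [Finite G] {H K : Subgroup G} {g : G}
    (hle : MulAut.conj g • H ≤ K) (hcard : Nat.card K ≤ Nat.card H) :
    MulAut.conj g • H = K :=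
  Subgroup.eq_of_le_of_card_ge hle (by rw [card_conj_smul]; exact hcard)

lemma card_subgroupOf {H K : Subgroup G} (h : H ≤ K) :
    Nat.card (H.subgroupOf K) = Nat.card H :=
  Nat.card_congr (Subgroup.subgroupOfEquivOfLe h).toEquiv

lemma card_map_mul_inf_ker {G' : Type*} [Group G'] (f : G →* G') (H : Subgroup G) :
    Nat.card (H.map f) * Nat.card (f.ker ⊓ H : Subgroup G) = Nat.card H := by
  rw [← Subgroup.relIndex_ker, ← Subgroup.inf_relIndex_right, ← Subgroup.relIndex_bot_left (H := f.ker ⊓ H),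
    ← Subgroup.relIndex_bot_left (H := H), mul_comm,
    Subgroup.relIndex_mul_relIndex _ _ _ bot_le inf_le_right]

lemma card_map_of_disjoint {G' : Type*} [Group G'] (f : G →* G') {H : Subgroup G}
    (h : f.ker ⊓ H = ⊥) : Nat.card (H.map f) = Nat.card H := by
  have := card_map_mul_inf_ker f H
  rwa [h, Subgroup.card_bot, mul_one] at this

lemma inf_eq_bot_of_coprime_dvd {H K : Subgroup G} {a b : ℕ} (hH : Nat.card H ∣ a)
    (hK : Nat.card K ∣ b) (hab : a.Coprime b) : H ⊓ K = ⊥ :=
  Subgroup.inf_eq_bot_of_coprime ((hab.coprime_dvd_left hH).coprime_dvd_right hK)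

lemma card_sup_mul_card_inf {H N : Subgroup G} (h : H ≤ Subgroup.normalizer (N : Set G)) :
    Nat.card (H ⊔ N : Subgroup G) * Nat.card (N ⊓ H : Subgroup G) = Nat.card H * Nat.card N := by
  have hle : H ⊔ N ≤ Subgroup.normalizer (N : Set G) := sup_le h Subgroup.le_normalizer
  have hn : (N.subgroupOf (H ⊔ N)).Normal :=
    Subgroup.normal_subgroupOf_of_le_normalizer hle
  have h1 := Subgroup.relIndex_mul_relIndex (⊥ : Subgroup G) N (H ⊔ N) bot_le le_sup_right
  simp only [Subgroup.relIndex_bot_left] at h1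
  have h2 : N.relIndex (H ⊔ N) = N.relIndex H := by
    have key := Subgroup.relIndex_sup_right (H.subgroupOf (H ⊔ N)) (N.subgroupOf (H ⊔ N))
    rw [← Subgroup.subgroupOf_sup le_sup_left le_sup_right, Subgroup.subgroupOf_self,
      Subgroup.relIndex_top_right, Subgroup.relIndex_subgroupOf le_sup_left] at key
    exact key
  have h3 := Subgroup.relIndex_mul_relIndex (⊥ : Subgroup G) (N ⊓ H) H bot_le inf_le_right
  simp only [Subgroup.relIndex_bot_left] at h3
  rw [← h1, h2, ← Subgroup.inf_relIndex_right]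
  rw [← h3]
  ring

lemma card_sup_of_disjoint {H N : Subgroup G} (h : H ≤ Subgroup.normalizer (N : Set G))
    (hd : N ⊓ H = ⊥) : Nat.card (H ⊔ N : Subgroup G) = Nat.card H * Nat.card N := by
  have := card_sup_mul_card_inf h
  rwa [hd, Subgroup.card_bot, mul_one] at this

lemma card_sup_dvd {H N : Subgroup G} (h : H ≤ Subgroup.normalizer (N : Set G)) :
    Nat.card (H ⊔ N : Subgroup G) ∣ Nat.card H * Nat.card N :=
  Dvd.intro _ (card_sup_mul_card_inf h)

/-- An element of a join with a subgroup that normalises the other factor splits as a product. -/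
lemma exists_mul_of_mem_sup {H N : Subgroup G} (h : H ≤ Subgroup.normalizer (N : Set G)) {x : G}
    (hx : x ∈ H ⊔ N) : ∃ a ∈ H, ∃ b ∈ N, x = a * b := by
  have hx' : x ∈ (↑(H ⊔ N) : Set G) := hx
  rw [Subgroup.coe_mul_of_left_le_normalizer_right H N h] at hx'
  obtain ⟨a, ha, b, hb, rfl⟩ := hx'
  exact ⟨a, ha, b, hb, rfl⟩

end CfsgLib.Coprime
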