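import Cfsg.Agent.Lib.Coprime.Basic

/-!
Conjugacy part of the Schur–Zassenhaus theorem and the dominance form of it.
-/

set_option autoImplicit false
set_option linter.style.haveILetI false
open Pointwise
open scoped IsMulCommutative

namespace CfsgLib.Coprime

universe u

section Abelian

variable {G : Type u} [Group G] [Finite G]

/-- In a group with a normal subgroup, two subgroups of order the index of it, when order and
index are coprime, are complements to it. -/
lemma isComplement'_of_card_eq_index {N : Subgroup G}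
    (hcop : (Nat.card N).Coprime N.index) {H : Subgroup G} (hH : Nat.card H = N.index) :
    Subgroup.IsComplement' N H := by
  refine Subgroup.isComplement'_of_coprime ?_ (by rwa [hH])
  rw [hH, Subgroup.card_mul_index]

omit [Finite G] in
lemma card_eq_index_of_isComplement' {N H : Subgroup G} (h : Subgroup.IsComplement' N H) :
    Nat.card H = N.index :=
  (Subgroup.IsComplement'.index_eq_card h.symm).symm

lemma sup_eq_top_of_card_eq_index {N : Subgroup G}
    (hcop : (Nat.card N).Coprime N.index) {H : Subgroup G} (hH : Nat.card H = N.index) :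
    H ⊔ N = ⊤ := by
  rw [sup_comm]
  exact (isComplement'_of_card_eq_index hcop hH).sup_eq_top

lemma inf_eq_bot_of_card_eq_index {N : Subgroup G}
    (hcop : (Nat.card N).Coprime N.index) {H : Subgroup G} (hH : Nat.card H = N.index) :
    N ⊓ H = ⊥ :=
  (isComplement'_of_card_eq_index hcop hH).disjoint.eq_bot

/-- Schur's theorem: complements to an abelian normal subgroup of coprime order and index are
conjugate under it (averaging argument). -/
lemma conj_complement_abelian (A : Subgroup G) [A.Normal] [IsMulCommutative A]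
    (hA : (Nat.card A).Coprime A.index) (H K : Subgroup G)
    (hH : Nat.card H = A.index) (hK : Nat.card K = A.index) :
    ∃ a ∈ A, MulAut.conj a • H = K := by
  classical
  haveI := Fintype.ofFinite H
  have hinf : A ⊓ K = ⊥ := inf_eq_bot_of_card_eq_index hA hK
  have hex : ∀ x : G, ∃ a : A, (a : G) * x ∈ K := by
    intro x
    obtain ⟨b, hb, c, hc, rfl⟩ := exists_mul_of_mem_sup (N := A) Subgroup.le_normalizer_of_normal
      (show x ∈ K ⊔ A from (sup_eq_top_of_card_eq_index hA hK).symm ▸ Subgroup.mem_top x)
    refine ⟨⟨b * c⁻¹ * b⁻¹, Subgroup.Normal.conj_mem inferInstance _ (A.inv_mem hc) _⟩, ?_⟩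
    simpa [mul_assoc] using hb
  choose φ hφ using hex
  let cj : G → A → A := fun x a =>
    ⟨x * a * x⁻¹, Subgroup.Normal.conj_mem inferInstance _ a.2 _⟩
  have cj_mul : ∀ x a b, cj x (a * b) = cj x a * cj x b := by
    intro x a b; apply Subtype.ext; simp [cj, mul_assoc]
  let cjHom : G → (A →* A) := fun x => MonoidHom.mk' (cj x) (cj_mul x)
  have hmul : ∀ x y : G, φ (x * y) = φ x * cj x (φ y) := by
    intro x y
    apply Subtype.ext
    have h1 : (↑(φ x * cj x (φ y)) : G) * (x * y) ∈ K := by
      have := mul_mem (hφ x) (hφ y)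
      simpa [cj, mul_assoc] using this
    have h2 := mul_mem (hφ (x * y)) (inv_mem h1)
    have h3 : (↑(φ (x * y)) : G) * (↑(φ x * cj x (φ y)))⁻¹ ∈ A ⊓ K :=
      ⟨A.mul_mem (φ (x * y)).2 (A.inv_mem (φ x * cj x (φ y)).2), by simpa [mul_assoc] using h2⟩
    rw [hinf, Subgroup.mem_bot, mul_inv_eq_one] at h3
    exact h3
  let m := A.index
  have hm : Fintype.card H = m := by rw [← Nat.card_eq_fintype_card, hH]
  let d : A := ∏ h : H, φ (h : G)
  have hd : ∀ h : H, d = φ (h : G) ^ m * cjHom (h : G) d := by
    intro h
    calc d = ∏ y : H, φ ((h : G) * (y : G)) :=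
          (Fintype.prod_equiv (Equiv.mulLeft h) _ (fun y : H => φ (y : G)) fun y => by simp).symm
      _ = ∏ y : H, (φ (h : G) * cjHom (h : G) (φ (y : G))) :=
          Finset.prod_congr rfl fun y _ => hmul _ _
      _ = _ := by rw [Finset.prod_mul_distrib, Finset.prod_const, Finset.card_univ, hm, map_prod]
  let e : A := (powCoprime hA).symm d
  have he : e ^ m = d := (powCoprime hA).apply_symm_apply d
  refine ⟨e, e.2, conj_smul_eq_of_le (conj_smul_le.2 fun x hx => ?_) (by rw [hH, hK])⟩
  have hkey : φ x = e * (cjHom x e)⁻¹ := by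
    apply (powCoprime hA).injective
    show φ x ^ m = (e * (cjHom x e)⁻¹) ^ m
    rw [mul_pow, inv_pow, ← (cjHom x).map_pow, he]
    have := hd ⟨x, hx⟩
    exact eq_mul_inv_of_mul_eq this.symm
  have hval : (φ x : G) = (e : G) * (x * (e : G) * x⁻¹)⁻¹ := by
    rw [hkey]; rfl
  have := hφ x
  rw [hval] at this
  simpa [mul_assoc] using this

end Abelian

/-- A nontrivial solvable subgroup, normalised by everything, contains a nontrivial normal
abelian subgroup of the whole group. -/
lemma exists_normal_abelian_le {G : Type u} [Group G] (N : Subgroup G) [N.Normal]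
    (hs : Group.IsSolvable N) (hN : N ≠ ⊥) :
    ∃ M : Subgroup G, M.Normal ∧ IsMulCommutative M ∧ M ≠ ⊥ ∧ M ≤ N := by
  classical
  obtain ⟨n, hn⟩ := hs
  have hex : ∃ k, (derivedSeries N k).map N.subtype = ⊥ := ⟨n, by rw [hn, Subgroup.map_bot]⟩
  have h0 : Nat.find hex ≠ 0 := by
    intro h
    have := Nat.find_spec hex
    rw [h, derivedSeries_zero, ← MonoidHom.range_eq_map, Subgroup.range_subtype] at this
    exact hN this
  obtain ⟨k, hk⟩ := Nat.exists_eq_succ_of_ne_zero h0
  let M := (derivedSeries N k).map N.subtype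
  have hMne : M ≠ ⊥ := Nat.find_min hex (by omega)
  have hcomm : ⁅M, M⁆ = ⊥ := by
    have := Nat.find_spec hex
    rw [hk, derivedSeries_succ, Subgroup.map_commutator] at this
    exact this
  refine ⟨M, ConjAct.normal_of_characteristic_of_normal, ?_, hMne, Subgroup.map_subtype_le _⟩
  rw [Subgroup.commutator_eq_bot_iff_le_centralizer] at hcomm
  exact ⟨⟨fun a b => Subtype.ext (hcomm b.2 a a.2)⟩⟩

/-- A nontrivial finite solvable group has a nontrivial normal `p`-subgroup for some prime `p`. -/
lemma exists_normal_pgroup_of_solvable (H : Type u) [Group H] [Finite H] [Nontrivial H]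
    (hs : Group.IsSolvable H) :
    ∃ p : ℕ, p.Prime ∧ ∃ P : Subgroup H, P.Normal ∧ IsPGroup p P ∧ P ≠ ⊥ := by
  obtain ⟨M, hMn, hMc, hM, -⟩ := exists_normal_abelian_le (⊤ : Subgroup H) inferInstance top_ne_bot
  have h1 : Nat.card M ≠ 1 := fun h => hM (Subgroup.card_eq_one.1 h)
  obtain ⟨p, hp, hdvd⟩ := Nat.exists_prime_and_dvd h1
  haveI := Fact.mk hp
  let P : Subgroup H :=
    { carrier := {x | x ∈ M ∧ x ^ p = 1}
      one_mem' := ⟨M.one_mem, one_pow _⟩
      mul_mem' := by
        rintro a b ⟨ha, ha'⟩ ⟨hb, hb'⟩
        refine ⟨mul_mem ha hb, ?_⟩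
        have hc : Commute a b := congrArg Subtype.val (hMc.is_comm.comm ⟨a, ha⟩ ⟨b, hb⟩)
        rw [hc.mul_pow, ha', hb', one_mul]
      inv_mem' := by
        rintro a ⟨ha, ha'⟩
        exact ⟨inv_mem ha, by rw [inv_pow, ha', inv_one]⟩ }
  refine ⟨p, hp, P, ⟨?_⟩, ?_, ?_⟩
  · rintro x ⟨hx, hx'⟩ g
    refine ⟨hMn.conj_mem x hx g, ?_⟩
    rw [conj_pow, hx', mul_one, mul_inv_cancel]
  · rw [isPGroup_iff_pow_pow_eq_one]
    rintro ⟨x, _, hx'⟩
    exact ⟨1, Subtype.ext (by simpa using hx')⟩
  · obtain ⟨x, hx⟩ := exists_prime_orderOf_dvd_card' (G := M) p hdvd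
    intro hbot
    have hxP : (x : H) ∈ P := ⟨x.2, by rw [← hx, ← Subgroup.orderOf_coe, pow_orderOf_eq_one]⟩
    rw [hbot, Subgroup.mem_bot] at hxP
    have h2 : orderOf (x : H) = p := by rw [Subgroup.orderOf_coe, hx]
    rw [hxP, orderOf_one] at h2
    exact hp.ne_one h2.symm

/-- A conjugating element can be taken inside the normal subgroup. -/
lemma exists_conj_mem_normal {G : Type u} [Group G] [Finite G] {N : Subgroup G} [N.Normal]
    (hcop : (Nat.card N).Coprime N.index) {H K : Subgroup G} (hH : Nat.card H = N.index)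
    (hK : Nat.card K = N.index) {g : G} (hg : MulAut.conj g • H ≤ K) :
    ∃ n ∈ N, MulAut.conj n • H = K := by
  obtain ⟨n, hn, h, hh, rfl⟩ : ∃ n ∈ N, ∃ h ∈ H, g = n * h := by
    have hg' : g ∈ (↑(N ⊔ H) : Set G) := by
      rw [sup_comm, sup_eq_top_of_card_eq_index hcop hH]; exact Subgroup.mem_top g
    rw [Subgroup.normal_mul] at hg'
    obtain ⟨a, ha, b, hb, hab⟩ := hg'
    exact ⟨a, ha, b, hb, hab.symm⟩
  refine ⟨n, hn, conj_smul_eq_of_le (conj_smul_le.2 fun x hx => ?_) (by rw [hH, hK])⟩
  have := conj_smul_le.1 hg (h⁻¹ * x * h) (mul_mem (mul_mem (inv_mem hh) hx) hh)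
  simpa [mul_assoc] using this

/-- Schur–Zassenhaus conjugacy, with the orders of the two complements as hypotheses. -/
theorem conj_complement : ∀ (n : ℕ) {G : Type u} [Group G] [Finite G], Nat.card G ≤ n →
    ∀ (N : Subgroup G) [N.Normal], (Nat.card N).Coprime N.index → ∀ H K : Subgroup G,
    Nat.card H = N.index → Nat.card K = N.index → (Group.IsSolvable N ∨ Group.IsSolvable H) →
    ∃ x ∈ N, MulAut.conj x • H = K := by
  intro n
  induction n with
  | zero =>
    intro G _ _ hc
    exact absurd hc (by have := Nat.card_pos (α := G); omega)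
  | succ n ih =>
    intro G _ _ hc N _ hcop H K hH hK hs
    rcases hs with hs | hs
    · by_cases hN : N = ⊥
      · subst hN
        have hHt : H = ⊤ := Subgroup.eq_top_of_card_eq H (by rw [hH, Subgroup.index_bot])
        have hKt : K = ⊤ := Subgroup.eq_top_of_card_eq K (by rw [hK, Subgroup.index_bot])
        exact ⟨1, one_mem _, by simp [hHt, hKt]⟩
      obtain ⟨M, hMn, hMc, hM, hMN⟩ := exists_normal_abelian_le N hs hN
      let f := QuotientGroup.mk' M
      have hfs : Function.Surjective f := QuotientGroup.mk'_surjective M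
      have hker : f.ker = M := QuotientGroup.ker_mk' M
      have hlt : Nat.card (G ⧸ M) ≤ n := by
        have h1 : 2 ≤ Nat.card M := (Subgroup.one_lt_card_iff_ne_bot M).2 hM
        have h2 := M.card_mul_index
        have h3 : Nat.card (G ⧸ M) = M.index := rfl
        have h4 : 0 < Nat.card (G ⧸ M) := Nat.card_pos
        nlinarith
      haveI hNfn : (N.map f).Normal := Subgroup.Normal.map inferInstance f hfs
      have hidx : (N.map f).index = N.index :=
        Subgroup.index_map_eq _ hfs (by rw [hker]; exact hMN)
      have hcop' : (Nat.card (N.map f)).Coprime (N.map f).index := by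
        rw [hidx]; exact hcop.coprime_dvd_left (Subgroup.card_map_dvd N f)
      have hdisj : ∀ L : Subgroup G, Nat.card L = N.index → f.ker ⊓ L = ⊥ := fun L hL => by
        rw [hker]
        exact inf_eq_bot_of_coprime_dvd (Subgroup.card_dvd_of_le hMN) hL.dvd hcop
      have hsN : Group.IsSolvable (N.map f) :=
        Group.isSolvable_of_surjective (f.subgroupMap_surjective N)
      obtain ⟨y, -, hy⟩ := ih hlt (N.map f) hcop' (H.map f) (K.map f)
        (by rw [card_map_of_disjoint f (hdisj H hH), hH, hidx])
        (by rw [card_map_of_disjoint f (hdisj K hK), hK, hidx]) (Or.inl hsN)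
      obtain ⟨g, rfl⟩ := hfs y
      have hH1 : MulAut.conj g • H ≤ K ⊔ M := by
        refine conj_smul_le.2 fun x hx => ?_
        have h1 := conj_smul_le.1 hy.le (f x) (Subgroup.mem_map_of_mem f hx)
        rw [← map_mul, ← map_inv, ← map_mul] at h1
        have h2 : g * x * g⁻¹ ∈ (K.map f).comap f := h1
        rwa [Subgroup.comap_map_eq, hker] at h2
      let H1 := MulAut.conj g • H
      let L := K ⊔ M
      haveI : IsMulCommutative M := hMc
      haveI : IsMulCommutative (M.subgroupOf L) :=
        ⟨⟨fun a b => Subtype.ext (Subtype.ext (by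
          have h := congrArg Subtype.val (hMc.is_comm.comm ⟨(a.1 : G), a.2⟩ ⟨(b.1 : G), b.2⟩)
          exact h))⟩⟩
      have hKM : M ⊓ K = ⊥ := by rw [← hker]; exact hdisj K hK
      have hMidx : (M.subgroupOf L).index = N.index := by
        have h1 : Nat.card L = Nat.card K * Nat.card M :=
          card_sup_of_disjoint Subgroup.le_normalizer_of_normal hKM
        have h2 := (M.subgroupOf L).card_mul_index
        rw [card_subgroupOf le_sup_right, h1, hK, mul_comm N.index] at h2
        exact Nat.eq_of_mul_eq_mul_left Nat.card_pos h2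
      obtain ⟨a, ha, hae⟩ := conj_complement_abelian (M.subgroupOf L)
        (by rw [hMidx, card_subgroupOf le_sup_right]
            exact hcop.coprime_dvd_left (Subgroup.card_dvd_of_le hMN))
        (H1.subgroupOf L) (K.subgroupOf L)
        (by rw [hMidx, card_subgroupOf hH1, card_conj_smul, hH])
        (by rw [hMidx, card_subgroupOf le_sup_left, hK])
      refine exists_conj_mem_normal hcop hH hK (g := (a : G) * g) (conj_smul_le.2 fun x hx => ?_)
      have hx1 : g * x * g⁻¹ ∈ H1 := conj_smul_le.1 le_rfl x hx
      have h3 := conj_smul_le.1 hae.le ⟨g * x * g⁻¹, hH1 hx1⟩ hx1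
      rw [Subgroup.mem_subgroupOf] at h3
      simpa [mul_assoc] using h3
    · by_cases hHb : H = ⊥
      · have h1 : Nat.card K = 1 := by rw [hK, ← hH, hHb, Subgroup.card_bot]
        exact ⟨1, one_mem _, by simp [hHb, Subgroup.card_eq_one.1 h1]⟩
      haveI : Nontrivial H := (Subgroup.nontrivial_iff_ne_bot H).2 hHb
      obtain ⟨p, hp, P0, hP0n, hP0p, hP0⟩ := exists_normal_pgroup_of_solvable H hs
      haveI := Fact.mk hp
      haveI := hP0n
      let P := P0.map H.subtype
      have hPH : P ≤ H := Subgroup.map_subtype_le P0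
      have hPp : IsPGroup p P := hP0p.map _
      have hPne : P ≠ ⊥ := by
        intro h
        apply hP0
        rwa [Subgroup.map_eq_bot_iff_of_injective _ Subtype.coe_injective] at h
      have hHP : H ≤ Subgroup.normalizer (P : Set G) :=
        Subgroup.le_normalizer_iff.2 fun h hh k hk => by
          obtain ⟨k0, hk0, rfl⟩ := hk
          exact ⟨⟨h, hh⟩ * k0 * ⟨h, hh⟩⁻¹, hP0n.conj_mem k0 hk0 ⟨h, hh⟩, rfl⟩
      have hPN : P ⊓ N = ⊥ := by
        rw [inf_comm]
        exact eq_bot_iff.2 ((inf_le_inf_left N hPH).trans (inf_eq_bot_of_card_eq_index hcop hH).le)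
      let U := P ⊔ N
      have hU : Nat.card U = Nat.card P * Nat.card N :=
        card_sup_of_disjoint Subgroup.le_normalizer_of_normal (by rwa [inf_comm])
      haveI hUn : U.Normal := by
        rw [← Subgroup.normalizer_eq_top_iff, eq_top_iff, ← sup_eq_top_of_card_eq_index hcop hH]
        refine sup_le ?_ ((le_sup_right : N ≤ U).trans Subgroup.le_normalizer)
        exact hHP.trans (Subgroup.normalizer_le_normalizer_sup_of_normalizer_le_left
          Subgroup.le_normalizer_of_normal)
      let Q := K ⊓ U
      have hQ : Nat.card Q = Nat.card P := by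
        have h1 : Q ⊔ N = U := by
          refine le_antisymm (sup_le inf_le_right le_sup_right) fun x hx => ?_
          obtain ⟨a, ha, b, hb, rfl⟩ := exists_mul_of_mem_sup (N := N)
            Subgroup.le_normalizer_of_normal
            (show x ∈ K ⊔ N from (sup_eq_top_of_card_eq_index hcop hK).symm ▸ Subgroup.mem_top x)
          refine Subgroup.mul_mem_sup ⟨ha, ?_⟩ hb
          have := mul_mem hx (inv_mem ((le_sup_right : N ≤ U) hb))
          simpa [mul_assoc] using this
        have hd : N ⊓ Q = ⊥ :=
          eq_bot_iff.2 ((inf_le_inf_left N inf_le_left).trans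
            (inf_eq_bot_of_card_eq_index hcop hK).le)
        have h2 := card_sup_of_disjoint (H := Q) (N := N) Subgroup.le_normalizer_of_normal hd
        rw [h1, hU] at h2
        exact (Nat.eq_of_mul_eq_mul_right Nat.card_pos h2).symm
      obtain ⟨k, hk⟩ := hPp.exists_card_eq
      have hpN : ¬ p ∣ Nat.card N := by
        intro hdvd
        have h1 : 1 < Nat.card P := (Subgroup.one_lt_card_iff_ne_bot P).2 hPne
        have hk0 : k ≠ 0 := fun h => by rw [hk, h, pow_zero] at h1; omega
        have h2 : p ∣ N.index := by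
          rw [← hH]
          exact (hk ▸ dvd_pow_self p hk0).trans (Subgroup.card_dvd_of_le hPH)
        exact hp.not_dvd_one (hcop ▸ Nat.dvd_gcd hdvd h2)
      have hfact : p ^ (Nat.card U).factorization p = p ^ k := by
        rw [hU, hk, Nat.factorization_mul (pow_ne_zero _ hp.ne_zero) Nat.card_pos.ne']
        simp [hp.factorization_pow, Nat.factorization_eq_zero_of_not_dvd hpN]
      let SP : Sylow p U := Sylow.ofCard (P.subgroupOf U)
        (by rw [hfact, card_subgroupOf le_sup_left, hk])
      let SQ : Sylow p U := Sylow.ofCard (Q.subgroupOf U)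
        (by rw [hfact, card_subgroupOf inf_le_right, hQ, hk])
      obtain ⟨x, hx⟩ := MulAction.exists_smul_eq U SP SQ
      have hxPQ : MulAut.conj (x : G) • P = Q := by
        refine conj_smul_eq_of_le (conj_smul_le.2 fun y hy => ?_) hQ.le
        have h1 : MulAut.conj x • (SP : Subgroup U) = (SQ : Subgroup U) := by
          rw [← hx, Sylow.coe_subgroup_smul]
        have h2 := conj_smul_le.1 h1.le ⟨y, (le_sup_left : P ≤ U) hy⟩ hy
        exact h2
      let H2 := MulAut.conj (x : G) • H
      have hH2 : Nat.card H2 = N.index := by rw [card_conj_smul, hH]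
      have hH2Q : H2 ≤ Subgroup.normalizer (Q : Set G) := by
        refine Subgroup.le_normalizer_iff.2 fun y hy q hq => ?_
        have hy' := mem_conj_smul.1 hy
        rw [← hxPQ] at hq ⊢
        rw [mem_conj_smul] at hq ⊢
        have := (Subgroup.le_normalizer_iff.1 hHP) _ hy' _ hq
        simpa [mul_assoc] using this
      have hKQ : K ≤ Subgroup.normalizer (Q : Set G) := by
        refine Subgroup.le_normalizer_iff.2 fun y hy q hq => ⟨?_, hUn.conj_mem q hq.2 y⟩
        exact K.mul_mem (K.mul_mem hy hq.1) (K.inv_mem hy)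
      have hsH2 : Group.IsSolvable H2 :=
        Group.isSolvable_of_surjective (f := (Subgroup.equivSMul (MulAut.conj (x : G)) H).toMonoidHom)
          (MulEquiv.surjective _)
      suffices h : ∃ y : G, MulAut.conj y • H2 ≤ K by
        obtain ⟨y, hy⟩ := h
        refine exists_conj_mem_normal hcop hH hK (g := y * (x : G)) ?_
        rwa [map_mul, mul_smul]
      let L := Subgroup.normalizer (Q : Set G)
      by_cases hL : L = ⊤
      · haveI hQn : Q.Normal := Subgroup.normalizer_eq_top_iff.1 hL
        let f := QuotientGroup.mk' Q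
        have hfs : Function.Surjective f := QuotientGroup.mk'_surjective Q
        have hker : f.ker = Q := QuotientGroup.ker_mk' Q
        have hlt : Nat.card (G ⧸ Q) ≤ n := by
          have h1 : 2 ≤ Nat.card Q := by
            rw [hQ]; exact (Subgroup.one_lt_card_iff_ne_bot P).2 hPne
          have h2 := Q.card_mul_index
          have h3 : Nat.card (G ⧸ Q) = Q.index := rfl
          have h4 : 0 < Nat.card (G ⧸ Q) := Nat.card_pos
          nlinarith
        haveI : (N.map f).Normal := Subgroup.Normal.map inferInstance f hfs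
        have hQK : Q ≤ K := inf_le_left
        have hQH2 : Q ≤ H2 := by
          rw [← hxPQ]; exact Subgroup.pointwise_smul_le_pointwise_smul_iff.2 hPH
        have hNQ : f.ker ⊓ N = ⊥ := by
          rw [hker, inf_comm]
          exact eq_bot_iff.2 ((inf_le_inf_left N hQK).trans
            (inf_eq_bot_of_card_eq_index hcop hK).le)
        have hcardN : Nat.card (N.map f) = Nat.card N := card_map_of_disjoint f hNQ
        have hidx : (N.map f).index * Nat.card Q = N.index := by
          have h2 := (N.map f).card_mul_index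
          have h3 := Q.card_mul_index
          have h4 := N.card_mul_index
          rw [show Nat.card (G ⧸ Q) = Q.index from rfl, hcardN] at h2
          apply Nat.eq_of_mul_eq_mul_left (Nat.card_pos (α := N))
          rw [h4, ← mul_assoc, h2, mul_comm, h3]
        have hcardL : ∀ B : Subgroup G, Nat.card B = N.index → Q ≤ B →
            Nat.card (B.map f) = (N.map f).index := by
          intro B hB hQB
          have h1 := card_map_mul_inf_ker f B
          rw [hker, inf_eq_left.2 hQB, hB, ← hidx] at h1
          exact Nat.eq_of_mul_eq_mul_right Nat.card_pos h1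
        obtain ⟨y, -, hy⟩ := ih hlt (N.map f)
          (by rw [hcardN]; exact hcop.coprime_dvd_right (Dvd.intro _ hidx))
          (H2.map f) (K.map f) (hcardL H2 hH2 hQH2) (hcardL K hK hQK)
          (Or.inr (Group.isSolvable_of_surjective (f.subgroupMap_surjective H2)))
        obtain ⟨g, rfl⟩ := hfs y
        refine ⟨g, conj_smul_le.2 fun z hz => ?_⟩
        have h1 := conj_smul_le.1 hy.le (f z) (Subgroup.mem_map_of_mem f hz)
        rw [← map_mul, ← map_inv, ← map_mul] at h1
        have h2 : g * z * g⁻¹ ∈ (K.map f).comap f := h1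
        rwa [Subgroup.comap_map_eq, hker, sup_eq_left.2 hQK] at h2
      · have hlt : Nat.card L ≤ n := by
          have h2 := L.card_mul_index
          have h3 : 1 < L.index := Subgroup.one_lt_index_of_ne_top hL
          have h4 : 0 < Nat.card L := Nat.card_pos
          nlinarith
        have hidx : (N.subgroupOf L).index = N.index := by
          show N.relIndex L = N.index
          rw [← Subgroup.relIndex_sup_right (H := L), ← Subgroup.relIndex_top_right (H := N)]
          congr 1
          exact eq_top_iff.2 ((sup_eq_top_of_card_eq_index hcop hK).ge.trans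
            (sup_le_sup_right hKQ N))
        have hcardN : Nat.card (N.subgroupOf L) ∣ Nat.card N :=
          Subgroup.card_comap_dvd_of_injective N L.subtype Subtype.coe_injective
        obtain ⟨y, -, hy⟩ := ih hlt (N.subgroupOf L)
          (by rw [hidx]; exact hcop.coprime_dvd_left hcardN)
          (H2.subgroupOf L) (K.subgroupOf L)
          (by rw [card_subgroupOf hH2Q, hH2, hidx]) (by rw [card_subgroupOf hKQ, hK, hidx])
          (Or.inr (Group.isSolvable_of_surjective
            (f := (Subgroup.subgroupOfEquivOfLe hH2Q).symm.toMonoidHom) (MulEquiv.surjective _)))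
        refine ⟨(y : G), conj_smul_le.2 fun z hz => ?_⟩
        exact conj_smul_le.1 hy.le ⟨z, hH2Q hz⟩ hz

/-- Schur–Zassenhaus conjugacy: complements (given by their order) to a normal subgroup of coprime
order and index are conjugate under it when it or the quotient is solvable. -/
theorem conj_complement_of_card {G : Type u} [Group G] [Finite G] (N : Subgroup G) [N.Normal]
    (hcop : (Nat.card N).Coprime N.index) (hs : Group.IsSolvable N ∨ Group.IsSolvable (G ⧸ N))
    (H K : Subgroup G) (hH : Nat.card H = N.index) (hK : Nat.card K = N.index) :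
    ∃ x ∈ N, MulAut.conj x • H = K := by
  refine conj_complement _ le_rfl N hcop H K hH hK (hs.imp id fun h => ?_)
  haveI := h
  refine Group.isSolvable_of_isSolvable_injective (f := (QuotientGroup.mk' N).comp H.subtype) ?_
  rw [injective_iff_map_eq_one]
  intro a ha
  rw [MonoidHom.comp_apply, QuotientGroup.mk'_apply, QuotientGroup.eq_one_iff] at ha
  have h1 : (a : G) ∈ N ⊓ H := ⟨ha, a.2⟩
  rw [inf_eq_bot_of_card_eq_index hcop hH, Subgroup.mem_bot] at h1
  exact Subtype.ext h1

/-- Dominance: a subgroup of order prime to a normal Hall subgroup lies in a conjugate of any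
complement, when the normal subgroup or the subgroup is solvable. -/
theorem exists_conj_le_complement {G : Type u} [Group G] [Finite G] (N : Subgroup G) [N.Normal]
    (hcop : (Nat.card N).Coprime N.index) (K : Subgroup G) (hK : Nat.card K = N.index)
    (U : Subgroup G) (hU : (Nat.card N).Coprime (Nat.card U))
    (hs : Group.IsSolvable N ∨ Group.IsSolvable U) :
    ∃ x ∈ N, MulAut.conj x • U ≤ K := by
  have hNU : N ⊓ U = ⊥ := Subgroup.inf_eq_bot_of_coprime hU
  let L := U ⊔ N
  have hL : Nat.card L = Nat.card U * Nat.card N :=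
    card_sup_of_disjoint Subgroup.le_normalizer_of_normal hNU
  let B := K ⊓ L
  have hB1 : B ⊔ N = L := by
    refine le_antisymm (sup_le inf_le_right le_sup_right) fun x hx => ?_
    obtain ⟨a, ha, b, hb, rfl⟩ := exists_mul_of_mem_sup (N := N) Subgroup.le_normalizer_of_normal
      (show x ∈ K ⊔ N from (sup_eq_top_of_card_eq_index hcop hK).symm ▸ Subgroup.mem_top x)
    refine Subgroup.mul_mem_sup ⟨ha, ?_⟩ hb
    have := mul_mem hx (inv_mem ((le_sup_right : N ≤ L) hb))
    simpa [mul_assoc] using this
  have hB : Nat.card B = Nat.card U := by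
    have h1 := card_sup_of_disjoint (H := B) (N := N) Subgroup.le_normalizer_of_normal
      (eq_bot_iff.2 ((inf_le_inf_left N inf_le_left).trans
        (inf_eq_bot_of_card_eq_index hcop hK).le))
    rw [hB1, hL] at h1
    exact (Nat.eq_of_mul_eq_mul_right Nat.card_pos h1).symm
  have hidx : (N.subgroupOf L).index = Nat.card U := by
    have h2 := (N.subgroupOf L).card_mul_index
    rw [card_subgroupOf le_sup_right, hL, mul_comm (Nat.card U)] at h2
    exact Nat.eq_of_mul_eq_mul_left Nat.card_pos h2
  obtain ⟨x, hx, he⟩ := conj_complement _ le_rfl (N.subgroupOf L)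
    (by rw [card_subgroupOf le_sup_right, hidx]; exact hU) (U.subgroupOf L) (B.subgroupOf L)
    (by rw [card_subgroupOf le_sup_left, hidx]) (by rw [card_subgroupOf inf_le_right, hB, hidx])
    (hs.imp
      (fun h => @Group.isSolvable_of_surjective _ _ _ _
        (Subgroup.subgroupOfEquivOfLe (le_sup_right : N ≤ L)).symm.toMonoidHom
        (MulEquiv.surjective _) h)
      (fun h => @Group.isSolvable_of_surjective _ _ _ _
        (Subgroup.subgroupOfEquivOfLe (le_sup_left : U ≤ L)).symm.toMonoidHom
        (MulEquiv.surjective _) h))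
  refine ⟨(x : G), hx, conj_smul_le.2 fun z hz => ?_⟩
  exact (conj_smul_le.1 he.le ⟨z, (le_sup_left : U ≤ L) hz⟩ hz).1

end CfsgLib.Coprime
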