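import Cfsg.Agent.Lib.Coprime.Action
import Cfsg.Agent.Lib.Generation.Coprime
import Cfsg.Agent.Lib.PGroup.Frattini
import Cfsg.Prelude.Def_Transfer

/-!
# Coprime action: generation by centralizers of hyperplanes

A nontrivial elementary abelian `p`-group `A` normalizing a `p'`-group `X`: `X` is generated by the
`C_X(B)`, `B` of index `p` in `A`.
-/

set_option autoImplicit false

namespace CfsgLib.Coprime39

open Subgroup
open scoped IsMulCommutative

variable {G : Type*} [Group G] [Finite G] {p : ℕ} [hp : Fact p.Prime]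

/-- The join of the centralizers in `X` of the subgroups of index `p` in `A`. -/
def hyperCent (p : ℕ) (A X : Subgroup G) : Subgroup G :=
  ⨆ B : {B : Subgroup G // B ≤ A ∧ B.relIndex A = p}, X ⊓ centralizer ((B : Subgroup G) : Set G)

omit [Finite G] hp in
theorem hyperCent_le (A X : Subgroup G) : hyperCent p A X ≤ X := iSup_le fun _ => inf_le_left

omit [Finite G] hp in
theorem hyperCent_mono {A X Y : Subgroup G} (h : X ≤ Y) : hyperCent p A X ≤ hyperCent p A Y :=
  iSup_mono fun _ => inf_le_inf_right _ h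

theorem le_hyperCent_of_isPGroup {q : ℕ} [Fact q.Prime] {A Q : Subgroup G}
    (hA : Cfsg.IsElementaryAbelian p A) (hA1 : A ≠ ⊥) (hQ : IsPGroup q Q)
    (hcop : (Nat.card A).Coprime (Nat.card Q)) (hAQ : A ≤ normalizer (Q : Set G)) :
    Q ≤ hyperCent p A Q := by
  haveI := hA.1
  set Y := hyperCent p A Q with hY
  have hYQ : Y ≤ Q := hyperCent_le A Q
  by_contra hne
  haveI : Group.IsNilpotent Q := hQ.isNilpotent
  have hlt : Y.subgroupOf Q < ⊤ := by
    rw [lt_top_iff_ne_top, Ne, subgroupOf_eq_top]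
    exact hne
  obtain ⟨y, hy, hyY⟩ := SetLike.exists_of_lt (Group.normalizerCondition_of_isNilpotent _ hlt)
  -- `A` normalizes `Y`
  have hAY : A ≤ normalizer (Y : Set G) := by
    refine le_normalizer_iff.mpr fun a ha x hx => ?_
    suffices h : Y ≤ Y.comap (MulAut.conj a).toMonoidHom by
      simpa [MulAut.conj_apply] using h hx
    refine iSup_le fun B => ?_
    intro z hz
    rw [mem_comap]
    refine le_iSup (fun B : {B : Subgroup G // B ≤ A ∧ B.relIndex A = p} =>
      Q ⊓ centralizer ((B : Subgroup G) : Set G)) B ?_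
    refine ⟨(mem_normalizer_iff.mp (hAQ ha) z).mp hz.1, mem_centralizer_iff.mpr fun b hb => ?_⟩
    have hab : Commute a b := setLike_mul_comm ha (B.2.1 hb)
    have hzb : Commute b z := mem_centralizer_iff.mp hz.2 b hb
    exact ((hab.symm.mul_right hzb).mul_right hab.inv_left.symm).eq
  set H := normalizer (Y : Set G) with hH
  have hyN : (y : G) ∈ Q ⊓ H := by
    refine mem_inf.mpr ⟨y.2, ?_⟩
    rw [hH, mem_normalizer_iff]
    intro g
    constructor
    · intro hg
      have h := (mem_normalizer_iff.mp hy ⟨g, hYQ hg⟩).mp (by simpa [mem_subgroupOf] using hg)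
      simpa [mem_subgroupOf] using h
    · intro hg
      have hgQ : g ∈ Q := by
        have h1 := mul_mem (mul_mem (inv_mem y.2) (hYQ hg)) y.2
        simpa [mul_assoc] using h1
      have h := (mem_normalizer_iff.mp hy ⟨g, hgQ⟩).mpr (by simpa [mem_subgroupOf] using hg)
      simpa [mem_subgroupOf] using h
  haveI : (Y.subgroupOf H).Normal := normal_subgroupOf_of_le_normalizer le_rfl
  set f := QuotientGroup.mk' (Y.subgroupOf H)
  set U := (A.subgroupOf H).map f with hU
  set R := ((Q ⊓ H).subgroupOf H).map f with hR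
  have hcardA : ∃ n, Nat.card A = p ^ n :=
    IsPGroup.iff_card.mp (fun a : A => ⟨1, Subtype.ext (by simpa using hA.2 a a.2)⟩)
  have hpq : q ≠ p := by
    rintro rfl
    obtain ⟨n, hn⟩ := hcardA
    obtain ⟨k, hk⟩ := IsPGroup.iff_card.mp hQ
    rcases n with _ | n
    · exact hA1 (card_eq_one.mp (by simpa using hn))
    rcases k with _ | k
    · apply hne
      rw [show Q = ⊥ from card_eq_one.mp (by simpa using hk)]
      exact bot_le
    rw [hn, hk] at hcop
    exact (Fact.out : q.Prime).not_dvd_one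
      (hcop ▸ Nat.dvd_gcd (dvd_pow_self q n.succ_ne_zero) (dvd_pow_self q k.succ_ne_zero))
  have hU1 : U ≠ ⊥ := by
    intro h
    rw [hU, Subgroup.map_eq_bot_iff, QuotientGroup.ker_mk'] at h
    have hAY' : A ≤ Y := fun a ha => mem_subgroupOf.mp (h (x := ⟨a, hAY ha⟩) ha)
    refine hA1 (eq_bot_iff.mpr ((le_inf hAY' le_rfl).trans ?_))
    rw [← Subgroup.inf_eq_bot_of_coprime hcop]
    exact le_inf inf_le_right (inf_le_left.trans hYQ)
  have hR1 : R ≠ ⊥ := by
    intro h
    rw [hR, Subgroup.map_eq_bot_iff, QuotientGroup.ker_mk'] at h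
    exact hyY (mem_subgroupOf.mpr (h (x := ⟨(y : G), hyN.2⟩) hyN))
  have hRq : IsPGroup q R := ((hQ.to_le inf_le_left).comap_subtype).map f
  have hRc : (Nat.card R).Coprime p := by
    obtain ⟨k, hk⟩ := IsPGroup.iff_card.mp hRq
    rw [hk]
    exact Nat.Coprime.pow_left k ((Nat.coprime_primes Fact.out hp.out).mpr hpq)
  have hUR : U ≤ normalizer (R : Set (↥H ⧸ Y.subgroupOf H)) := by
    rintro _ ⟨a, ha, rfl⟩
    refine le_normalizer_map f (mem_map_of_mem f ?_)
    rw [mem_normalizer_iff]
    intro g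
    rw [mem_subgroupOf, mem_subgroupOf, mem_inf, mem_inf, Subgroup.coe_mul, Subgroup.coe_mul,
      Subgroup.coe_inv]
    exact and_congr (mem_normalizer_iff.mp (hAQ ha) g)
      ⟨fun h => mul_mem (mul_mem a.2 h) (inv_mem a.2),
        fun h => by simpa [mul_assoc] using mul_mem (mul_mem (inv_mem a.2) h) a.2⟩
  haveI hUab : IsMulCommutative U := by
    refine ⟨⟨?_⟩⟩
    rintro ⟨_, a, ha, rfl⟩ ⟨_, b, hb, rfl⟩
    apply Subtype.ext
    show f a * f b = f b * f a
    rw [← map_mul, ← map_mul]
    exact congrArg f (Subtype.ext (setLike_mul_comm (mem_subgroupOf.mp ha) (mem_subgroupOf.mp hb)))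
  have hUexp : ∀ u ∈ U, u ^ p = 1 := by
    rintro _ ⟨a, ha, rfl⟩
    rw [← map_pow, show a ^ p = 1 from Subtype.ext (by simpa using hA.2 a ha), map_one]
  obtain ⟨U₀, hU₀, hco, hfix⟩ :=
    CfsgLib.Generation.exists_coatom_fixed hUab hUexp hU1 hUR hRc hR1
  obtain ⟨r, hr, hr1⟩ := (bot_or_exists_ne_one _).resolve_left hfix
  obtain ⟨⟨x, hx, rfl⟩, hrC⟩ := mem_inf.mp hr
  set B := ((U₀.comap f).map H.subtype) ⊓ A with hB
  have hBi : B.relIndex A = p := by
    have h1 : U₀.relIndex U = p :=
      CfsgLib.PGroup.index_of_isCoatom (fun u => ⟨1, Subtype.ext (by simpa using hUexp u u.2)⟩) hco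
    rw [hB, inf_relIndex_right, ← relIndex_subgroupOf hAY, subgroupOf,
      comap_map_eq_self_of_injective (subtype_injective H), relIndex_comap]
    exact h1
  have hcx : ∀ b ∈ B, (x : G)⁻¹ * (b * x * b⁻¹) ∈ Y := by
    rintro b ⟨⟨b', hb', rfl⟩, -⟩
    have h : f b' * f x = f x * f b' := mem_centralizer_iff.mp hrC _ hb'
    have h' : f (x⁻¹ * (b' * x * b'⁻¹)) = 1 := by
      simp only [map_mul, map_inv]
      rw [h]
      group
    have h'' : x⁻¹ * (b' * x * b'⁻¹) ∈ Y.subgroupOf H := (QuotientGroup.eq_one_iff _).mp h'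
    exact mem_subgroupOf.mp h''
  haveI : IsMulCommutative B :=
    ⟨⟨fun a b => Subtype.ext (setLike_mul_comm (mem_inf.mp a.2).2 (mem_inf.mp b.2).2)⟩⟩
  obtain ⟨c, hc, hcY⟩ := CfsgLib.Coprime.exists_centralizing_rep B Q (inf_le_right.trans hAQ)
    (hcop.coprime_dvd_left (card_dvd_of_le inf_le_right)) (Or.inr inferInstance) Y hYQ
    (inf_le_right.trans hAY) (mem_subgroupOf.mp hx).1 hcx
  have hcY' : c ∈ Y := le_iSup (fun B : {B : Subgroup G // B ≤ A ∧ B.relIndex A = p} =>
      Q ⊓ centralizer ((B : Subgroup G) : Set G)) ⟨B, inf_le_right, hBi⟩ hc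
  apply hr1
  show f x = 1
  refine (QuotientGroup.eq_one_iff x).mpr (mem_subgroupOf.mpr ?_)
  have h := Y.mul_mem hcY' (Y.inv_mem hcY)
  simpa using h

/-- `X` is generated by the centralizers of the index-`p` subgroups of `A`. -/
theorem eq_hyperCent {A X : Subgroup G} (hA : Cfsg.IsElementaryAbelian p A) (hA1 : A ≠ ⊥)
    (hX : (Nat.card X).Coprime p) (hAX : A ≤ normalizer (X : Set G)) : hyperCent p A X = X := by
  haveI := hA.1
  obtain ⟨n, hn⟩ := IsPGroup.iff_card.mp
    (fun a : A => ⟨1, Subtype.ext (by simpa using hA.2 a a.2)⟩ : IsPGroup p A)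
  have hcop : (Nat.card A).Coprime (Nat.card X) := hn ▸ (hX.symm.pow_left n)
  refine Subgroup.eq_of_le_of_card_ge (hyperCent_le A X) (Nat.le_of_dvd Nat.card_pos ?_)
  refine (Nat.factorization_le_iff_dvd Nat.card_pos.ne' Nat.card_pos.ne').1 fun q => ?_
  by_cases hq : q.Prime
  · haveI := Fact.mk hq
    obtain ⟨P, hP⟩ := CfsgLib.Coprime.exists_invariant_sylow A X hAX hcop
      (Or.inl inferInstance) q
    set P' := (P : Subgroup X).map X.subtype with hP'
    have hle : P' ≤ hyperCent p A X :=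
      (le_hyperCent_of_isPGroup hA hA1 (P.isPGroup'.map _)
        (hcop.coprime_dvd_right (card_dvd_of_le (map_subtype_le _))) hP).trans
        (hyperCent_mono (map_subtype_le _))
    have hd := card_dvd_of_le hle
    rw [hP', Subgroup.card_subtype, P.card_eq_multiplicity] at hd
    exact (hq.pow_dvd_iff_le_factorization Nat.card_pos.ne').1 hd
  · simp [Nat.factorization_eq_zero_of_not_prime _ hq]

end CfsgLib.Coprime39

namespace CfsgLib.Coprime39

open Subgroup

/-- A nontrivial normal subgroup of a finite nilpotent group contains a nontrivial central element. -/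
theorem exists_central_mem {Q : Type*} [Group Q] [Finite Q] [Group.IsNilpotent Q] (N : Subgroup Q)
    [N.Normal] (hN : N ≠ ⊥) : ∃ z ∈ N, z ∈ center Q ∧ z ≠ 1 := by
  by_contra h
  push Not at h
  apply hN
  rw [eq_bot_iff]
  intro x hx
  have key : ∀ n, N ⊓ Subgroup.upperCentralSeries Q n ≤ ⊥ := by
    intro n
    induction n with
    | zero => rw [Subgroup.upperCentralSeries_zero]; exact inf_le_right
    | succ n ih =>
      intro y hy'
      obtain ⟨hyN, hy⟩ := mem_inf.mp hy'
      refine mem_bot.mpr (h y hyN (mem_center_iff.mpr fun g => ?_))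
      rw [Subgroup.mem_upperCentralSeries_succ_iff] at hy
      have h1 : y * g * y⁻¹ * g⁻¹ ∈ N ⊓ Subgroup.upperCentralSeries Q n := by
        refine mem_inf.mpr ⟨?_, hy g⟩
        rw [mul_assoc, mul_assoc, ← mul_assoc g y⁻¹]
        exact mul_mem hyN ((inferInstance : N.Normal).conj_mem _ (inv_mem hyN) g)
      have h2 := mem_bot.mp (ih h1)
      rw [mul_inv_eq_one, mul_inv_eq_iff_eq_mul] at h2
      exact h2.symm
  obtain ⟨n, hn⟩ := (Group.isNilpotent_iff (G := Q)).mp inferInstance
  exact key n (mem_inf.mpr ⟨hx, by rw [hn]; trivial⟩)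

end CfsgLib.Coprime39
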