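import Mathlib
import Cfsg.Agent.Lib.Coprime.Action
import Cfsg.Agent.Lib.Coprime.HyperplaneGeneration

/-!
# Bounded derived subgroups of fixed points under coprime action

Let `A` be elementary abelian of order `q³` acting coprimely on `G`, with `|C_G(a)'| ≤ m` for all
`a ≠ 1`. Then `|G'|` is bounded in terms of `q` and `m`.

No classification is needed: an element `x` fixed by a subgroup `B ≤ A` of order `q²` has at most
`m` conjugates under each `C_G(b)`, `b ∈ B#`; comparing invariant Sylow subgroups of `C_G(x)` and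
of `G` along series with abelian factors bounds `[G : C_G(x)]`. Hence `G'` is generated by a
normal set of bounded size consisting of elements of bounded order, and Schur's theorem applies.
-/

set_option autoImplicit false
set_option linter.style.haveILetI false

open scoped commutatorElement

namespace CfsgLib.BoundedDerived

open Subgroup

section Generic

variable {G : Type*} [Group G] [Finite G]

theorem relIndex_ne_zero' (H K : Subgroup G) : H.relIndex K ≠ 0 :=
  Subgroup.index_ne_zero_of_finite

/-- In a group with `G' ≤ T`, the index of `T` in `T ⊔ ⨆ C_i` is at most the product of the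
indices of `T` in the `C_i`. -/
theorem relIndex_sup_le_prod {ι : Type*} (T : Subgroup G) (hT : commutator G ≤ T) (s : Finset ι)
    (C : ι → Subgroup G) : T.relIndex (s.sup C ⊔ T) ≤ ∏ i ∈ s, T.relIndex (C i) := by
  classical
  induction s using Finset.induction_on with
  | empty => simp
  | @insert i s hi ih =>
    rw [Finset.prod_insert hi, Finset.sup_insert, sup_assoc]
    haveI : T.Normal := ⟨fun x hx g => by
      have h : ⁅g, x⁆ ∈ T := hT
        (Subgroup.commutator_mem_commutator (Subgroup.mem_top g) (Subgroup.mem_top x))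
      have e : g * x * g⁻¹ = ⁅g, x⁆ * x := by simp [commutatorElement_def]
      rw [e]; exact mul_mem h hx⟩
    set H := s.sup C ⊔ T with hH
    haveI : H.Normal := ⟨fun x hx g => by
      have h : ⁅g, x⁆ ∈ H := hT.trans le_sup_right
        (Subgroup.commutator_mem_commutator (Subgroup.mem_top g) (Subgroup.mem_top x))
      have e : g * x * g⁻¹ = ⁅g, x⁆ * x := by simp [commutatorElement_def]
      rw [e]; exact mul_mem h hx⟩
    rw [← relIndex_mul_relIndex (H := T) (K := H) (L := C i ⊔ H) le_sup_right le_sup_right,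
      Subgroup.relIndex_sup_right (H := C i) (K := H), mul_comm]
    exact Nat.mul_le_mul (relIndex_le_of_le_left le_sup_right (relIndex_ne_zero' _ _)) ih

/-- `|H ⊔ K| ≤ |H| |K|` in a commutative group. -/
theorem card_sup_le {V : Type*} [CommGroup V] [Finite V] (H K : Subgroup V) :
    Nat.card ↥(H ⊔ K) ≤ Nat.card H * Nat.card K := by
  rw [← Nat.card_prod]
  refine Nat.card_le_card_of_surjective
    (fun x : H × K => (⟨(x.1 : V) * x.2, Subgroup.mul_mem_sup x.1.2 x.2.2⟩ : ↥(H ⊔ K))) ?_
  rintro ⟨z, hz⟩
  obtain ⟨a, ha, b, hb, rfl⟩ := Subgroup.mem_sup.mp hz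
  exact ⟨(⟨a, ha⟩, ⟨b, hb⟩), rfl⟩

/-- A commutative group generated by `k` elements with `x ^ e = 1` has order at most `e ^ k`. -/
theorem card_closure_le {V : Type*} [CommGroup V] [Finite V] (e : ℕ) (he : 0 < e) (s : Finset V)
    (hs : ∀ x ∈ s, x ^ e = 1) : Nat.card ↥(Subgroup.closure (s : Set V)) ≤ e ^ s.card := by
  classical
  induction s using Finset.induction_on with
  | empty => simp
  | @insert a s ha ih =>
    rw [Finset.coe_insert, Set.insert_eq, Subgroup.closure_union, Finset.card_insert_of_notMem ha,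
      pow_succ', ← Subgroup.zpowers_eq_closure]
    refine (card_sup_le _ _).trans (Nat.mul_le_mul ?_ (ih fun x hx => hs x (Finset.mem_insert_of_mem hx)))
    rw [Nat.card_zpowers]
    exact Nat.le_of_dvd he (orderOf_dvd_of_pow_eq_one (hs a (Finset.mem_insert_self a s)))

/-- The bound for a group generated by a normal set of size `n` of elements with `x ^ e = 1`. -/
def normalSetBound (n e : ℕ) : ℕ :=
  (e + 1) ^ n *
    (Finset.range (n.factorial * n.factorial + 1)).sup Subgroup.cardCommutatorBound

/-- A group generated by a conjugation invariant set of bounded size, of elements of bounded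
order, has bounded order. -/
theorem card_le_of_normal_set {n e : ℕ} (he : 0 < e) (S : Set G) (hcl : Subgroup.closure S = ⊤)
    (hconj : ∀ g : G, ∀ s ∈ S, g * s * g⁻¹ ∈ S) (hS : S.ncard ≤ n) (hord : ∀ s ∈ S, s ^ e = 1) :
    Nat.card G ≤ normalSetBound n e := by
  classical
  -- the centre has bounded index
  let act : G →* Equiv.Perm S :=
    { toFun := fun g =>
        { toFun := fun s => ⟨g * s * g⁻¹, hconj g s s.2⟩
          invFun := fun s => ⟨g⁻¹ * s * g, by simpa using hconj g⁻¹ s s.2⟩
          left_inv := fun s => Subtype.ext (by simp [mul_assoc])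
          right_inv := fun s => Subtype.ext (by simp [mul_assoc]) }
      map_one' := Equiv.ext fun s => Subtype.ext (by simp)
      map_mul' := fun a b => Equiv.ext fun s => Subtype.ext (by simp [mul_assoc]) }
  have hker : act.ker ≤ Subgroup.center G := by
    intro g hg
    rw [MonoidHom.mem_ker] at hg
    have h1 : S ⊆ (Subgroup.centralizer ({g} : Set G) : Set G) := by
      intro s hs
      rw [SetLike.mem_coe, Subgroup.mem_centralizer_singleton_iff]
      have := congrArg Subtype.val (DFunLike.congr_fun hg (⟨s, hs⟩ : S))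
      simp only [act, MonoidHom.coe_mk, OneHom.coe_mk, Equiv.coe_fn_mk,
        Equiv.Perm.coe_one, id_eq] at this
      calc s * g = (g * s * g⁻¹) * g := by rw [this]
        _ = g * s := by group
    have h2 : (⊤ : Subgroup G) ≤ Subgroup.centralizer ({g} : Set G) :=
      hcl ▸ (Subgroup.closure_le _).2 h1
    rw [Subgroup.mem_center_iff]
    intro x
    exact Subgroup.mem_centralizer_singleton_iff.mp (h2 (Subgroup.mem_top x))
  have hidx : (Subgroup.center G).index ≤ n.factorial := by
    refine (Nat.le_of_dvd (Nat.pos_of_ne_zero Subgroup.index_ne_zero_of_finite)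
      (Subgroup.index_dvd_of_le hker)).trans ?_
    rw [Subgroup.index_ker]
    refine (Nat.card_le_card_of_injective _ Subtype.val_injective).trans ?_
    rw [Nat.card_perm, Nat.card_coe_set_eq]
    exact Nat.factorial_le hS
  -- few commutators
  have hcs : Nat.card (commutatorSet G) ≤ n.factorial * n.factorial := by
    let Z := Subgroup.center G
    let f : (G ⧸ Z) × (G ⧸ Z) → commutatorSet G := fun x =>
      ⟨⁅x.1.out, x.2.out⁆, ⟨x.1.out, x.2.out, rfl⟩⟩
    have hf : Function.Surjective f := by
      rintro ⟨_, a, b, rfl⟩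
      refine ⟨(QuotientGroup.mk a, QuotientGroup.mk b), Subtype.ext ?_⟩
      obtain ⟨⟨z, hz⟩, hza⟩ := QuotientGroup.mk_out_eq_mul Z a
      obtain ⟨⟨w, hw⟩, hwb⟩ := QuotientGroup.mk_out_eq_mul Z b
      show ⁅(QuotientGroup.mk a : G ⧸ Z).out, (QuotientGroup.mk b : G ⧸ Z).out⁆ = ⁅a, b⁆
      rw [hza, hwb, commutatorElement_def, commutatorElement_def]
      have hz' : ∀ x : G, x * z = z * x := Subgroup.mem_center_iff.mp hz
      have hw' : ∀ x : G, x * w = w * x := Subgroup.mem_center_iff.mp hw
      calc a * z * (b * w) * (a * z)⁻¹ * (b * w)⁻¹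
          = a * (z * (b * w)) * z⁻¹ * a⁻¹ * w⁻¹ * b⁻¹ := by group
        _ = a * ((b * w) * z) * z⁻¹ * a⁻¹ * w⁻¹ * b⁻¹ := by rw [← hz' (b * w)]
        _ = a * b * (w * a⁻¹) * w⁻¹ * b⁻¹ := by group
        _ = a * b * (a⁻¹ * w) * w⁻¹ * b⁻¹ := by rw [hw' a⁻¹]
        _ = a * b * a⁻¹ * b⁻¹ := by group
    refine (Nat.card_le_card_of_surjective f hf).trans ?_
    rw [Nat.card_prod]
    exact Nat.mul_le_mul hidx hidx
  have hder : Nat.card ↥(commutator G) ≤
      (Finset.range (n.factorial * n.factorial + 1)).sup Subgroup.cardCommutatorBound :=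
    (Subgroup.card_commutator_le_of_finite_commutatorSet G).trans
      (Finset.le_sup (Finset.mem_range.mpr (Nat.lt_succ_of_le hcs)))
  -- the abelianization
  have hab : Nat.card (Abelianization G) ≤ (e + 1) ^ n := by
    let s : Finset (Abelianization G) := S.toFinite.toFinset.image Abelianization.of
    have htop : Subgroup.closure (s : Set (Abelianization G)) = ⊤ := by
      rw [Finset.coe_image, Set.Finite.coe_toFinset, ← MonoidHom.map_closure, hcl,
        Subgroup.map_top_of_surjective]
      exact QuotientGroup.mk_surjective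
    have h1 := card_closure_le e he s (fun x hx => by
      obtain ⟨y, hy, rfl⟩ := Finset.mem_image.mp hx
      rw [← map_pow, hord y (S.toFinite.mem_toFinset.mp hy), map_one])
    rw [htop, Subgroup.card_top] at h1
    refine h1.trans ((Nat.pow_le_pow_left (Nat.le_succ e) _).trans
      (Nat.pow_le_pow_right (Nat.succ_pos e) ?_))
    refine Finset.card_image_le.trans ?_
    rwa [← Set.ncard_eq_toFinset_card S S.toFinite]
  rw [Subgroup.card_eq_card_quotient_mul_card_subgroup (commutator G)]
  exact Nat.mul_le_mul hab hder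

/-- The final bound. -/
def generatedBound (k N e : ℕ) : ℕ := normalSetBound (k * (N * N)) e

/-- If `G` is generated by a set `Y` of elements with at most `N` conjugates whose commutators lie
in a set of size `k` of elements with `x ^ e = 1`, then `G'` has bounded order. -/
theorem card_commutator_le_of_generators {k N e : ℕ} (he : 0 < e) (Y : Set G)
    (hY : Subgroup.closure Y = ⊤) (S₀ : Finset G) (hk : S₀.card ≤ k)
    (hcomm : ∀ x ∈ Y, ∀ y ∈ Y, ⁅x, y⁆ ∈ S₀) (hord : ∀ s ∈ S₀, s ^ e = 1)
    (hclass : ∀ x ∈ Y, (Set.range fun g : G => g * x * g⁻¹).ncard ≤ N) :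
    Nat.card ↥(commutator G) ≤ generatedBound k N e := by
  classical
  let S : Set G := {t | ∃ x ∈ Y, ∃ y ∈ Y, ∃ g : G, t = g * ⁅x, y⁆ * g⁻¹}
  set H := Subgroup.closure S with hH
  haveI hHn : H.Normal := by
    refine ⟨fun n hn g => ?_⟩
    have : H ≤ H.comap (MulAut.conj g).toMonoidHom := by
      refine (Subgroup.closure_le _).2 ?_
      rintro _ ⟨x, hx, y, hy, h, rfl⟩
      rw [SetLike.mem_coe, Subgroup.mem_comap]
      exact Subgroup.subset_closure ⟨x, hx, y, hy, g * h, by simp [mul_assoc]⟩
    simpa [MulAut.conj_apply] using this hn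
  -- `G/H` is abelian
  have hle : commutator G ≤ H := by
    let π := QuotientGroup.mk' H
    have h1 : ∀ x ∈ Y, ∀ y ∈ Y, π x * π y = π y * π x := fun x hx y hy => by
      refine commutatorElement_eq_one_iff_mul_comm.mp ?_
      rw [← map_commutatorElement]
      exact (QuotientGroup.eq_one_iff _).mpr
        (Subgroup.subset_closure ⟨x, hx, y, hy, 1, by simp⟩)
    have h2 : ∀ a b : G, π a * π b = π b * π a := by
      have h3 : ∀ y ∈ Y, ∀ a : G, π a * π y = π y * π a := fun y hy a => by
        have : (⊤ : Subgroup G) ≤ (Subgroup.centralizer ({π y} : Set (G ⧸ H))).comap π := by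
          rw [← hY]
          exact (Subgroup.closure_le _).2 fun x hx =>
            Subgroup.mem_centralizer_singleton_iff.mpr (h1 x hx y hy)
        exact Subgroup.mem_centralizer_singleton_iff.mp (this (Subgroup.mem_top a))
      intro a b
      have : (⊤ : Subgroup G) ≤ (Subgroup.centralizer ({π a} : Set (G ⧸ H))).comap π := by
        rw [← hY]
        exact (Subgroup.closure_le _).2 fun y hy =>
          Subgroup.mem_centralizer_singleton_iff.mpr (h3 y hy a).symm
      exact (Subgroup.mem_centralizer_singleton_iff.mp (this (Subgroup.mem_top b))).symm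
    rw [_root_.commutator_def, Subgroup.commutator_le]
    intro a _ b _
    rw [← QuotientGroup.eq_one_iff, ← QuotientGroup.mk'_apply, map_commutatorElement]
    exact commutatorElement_eq_one_iff_mul_comm.mpr (h2 a b)
  -- counting
  have hScard : S.ncard ≤ k * (N * N) := by
    let T : Finset G := S₀.filter fun s => ∃ x ∈ Y, ∃ y ∈ Y, s = ⁅x, y⁆
    have hsub : S ⊆ ⋃ s ∈ T, Set.range fun g : G => g * s * g⁻¹ := by
      rintro _ ⟨x, hx, y, hy, g, rfl⟩
      exact Set.mem_biUnion (x := ⁅x, y⁆)
        (Finset.mem_filter.mpr ⟨hcomm x hx y hy, x, hx, y, hy, rfl⟩) ⟨g, rfl⟩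
    refine (Set.ncard_le_ncard hsub (Set.toFinite _)).trans ?_
    refine (Finset.set_ncard_biUnion_le _ _).trans ?_
    refine (Finset.sum_le_card_nsmul T _ (N * N) fun s hs => ?_).trans ?_
    · obtain ⟨-, x, hx, y, hy, rfl⟩ := Finset.mem_filter.mp hs
      let Cx := Set.range fun g : G => g * x * g⁻¹
      let Cy := Set.range fun g : G => g * y * g⁻¹
      have hsub2 : (Set.range fun g : G => g * ⁅x, y⁆ * g⁻¹) ⊆
          (fun p : G × G => ⁅p.1, p.2⁆) '' (Cx ×ˢ Cy) := by
        rintro _ ⟨g, rfl⟩
        refine ⟨(g * x * g⁻¹, g * y * g⁻¹), ⟨⟨g, rfl⟩, ⟨g, rfl⟩⟩, ?_⟩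
        simp [commutatorElement_def, mul_assoc]
      refine (Set.ncard_le_ncard hsub2 (Set.toFinite _)).trans
        ((Set.ncard_image_le (Set.toFinite _)).trans ?_)
      rw [Set.ncard_prod]
      exact Nat.mul_le_mul (hclass x hx) (hclass y hy)
    · rw [smul_eq_mul]
      exact Nat.mul_le_mul_right _ ((Finset.card_filter_le _ _).trans hk)
  have hordS : ∀ t ∈ S, t ^ e = 1 := by
    rintro _ ⟨x, hx, y, hy, g, rfl⟩
    rw [conj_pow, hord _ (hcomm x hx y hy)]
    simp
  -- pass to `H`
  let S' : Set H := H.subtype ⁻¹' S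
  have h1 : Nat.card H ≤ normalSetBound (k * (N * N)) e := by
    refine card_le_of_normal_set he S' ?_ ?_ ?_ ?_
    · exact Subgroup.closure_preimage_eq_top S
    · intro g s hs
      obtain ⟨x, hx, y, hy, h, hh⟩ := hs
      refine ⟨x, hx, y, hy, (g : G) * h, ?_⟩
      have hh' : ((s : H) : G) = h * ⁅x, y⁆ * h⁻¹ := hh
      simp [hh', mul_assoc]
    · have hinj : Set.InjOn H.subtype S' := Subtype.val_injective.injOn
      rw [← Set.ncard_image_of_injOn hinj]
      exact (Set.ncard_le_ncard (Set.image_preimage_subset _ _) (Set.toFinite _)).trans hScard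
    · intro s hs
      exact Subtype.ext (by simpa using hordS _ hs)
  exact (Nat.le_of_dvd Nat.card_pos (Subgroup.card_dvd_of_le hle)).trans h1

end Generic

section Action

variable {X : Type*} [Group X] [Finite X]

/-- An elementary abelian subgroup `B` of order `q²` acting coprimely: the index of an invariant
subgroup `R` in an invariant `p`-group `P` is bounded by the product of the indices in the
centralizers of the elements of `B#`. -/
theorem relIndex_le_prod {q : ℕ} [Fact q.Prime] {p : ℕ} [Fact p.Prime] {B : Subgroup X}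
    (hB : Cfsg.IsElementaryAbelian q B) (hBc : Nat.card B = q ^ 2) (Bs : Finset X)
    (hBs : ∀ b ∈ B, b ≠ 1 → b ∈ Bs) (R : Subgroup X) :
    ∀ k, ∀ P : Subgroup X, Nat.card P ≤ k → R ≤ P → IsPGroup p P →
      (Nat.card P).Coprime q → B ≤ normalizer (P : Set X) → B ≤ normalizer (R : Set X) →
      R.relIndex P ≤ ∏ b ∈ Bs,
        (R ⊓ centralizer ({b} : Set X)).relIndex (P ⊓ centralizer ({b} : Set X)) := by
  intro k
  induction k with
  | zero => intro P hP; exact absurd hP (Nat.not_le.mpr Nat.card_pos)
  | succ k ih =>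
    intro P hPk hRP hPp hcop hBP hBR
    by_cases heq : R = P
    · subst heq
      rw [Subgroup.relIndex_self]
      exact Finset.one_le_prod fun b _ => Nat.pos_of_ne_zero (relIndex_ne_zero' _ _)
    -- the subgroup `T = R P'`
    haveI : Group.IsNilpotent P := hPp.isNilpotent
    set T₀ : Subgroup P := R.subgroupOf P ⊔ commutator P with hT₀
    have hT₀lt : T₀ ≠ ⊤ := by
      intro htop
      have hRne : R.subgroupOf P ≠ ⊤ := fun h =>
        heq (le_antisymm hRP (Subgroup.subgroupOf_eq_top.mp h))
      obtain ⟨M, hM, hRM⟩ := (eq_top_or_exists_le_coatom (R.subgroupOf P)).resolve_left hRne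
      haveI : M.Normal := Subgroup.NormalizerCondition.normal_of_coatom M
        Group.normalizerCondition_of_isNilpotent hM
      obtain ⟨g, hg⟩ : ∃ g : P, g ∉ M := by
        by_contra h; push Not at h; exact hM.1 (eq_top_iff.mpr fun x _ => h x)
      have hc : commutator P ≤ M := by
        refine Subgroup.Normal.commutator_le_of_self_sup_commutative_eq_top
          (H := Subgroup.zpowers g) (hM.2 _ ?_) inferInstance
        exact lt_of_le_of_ne le_sup_left fun h =>
          hg (h ▸ Subgroup.mem_sup_right (Subgroup.mem_zpowers g))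
      exact hM.1 (top_le_iff.mp (htop ▸ sup_le hRM hc))
    set T := T₀.map P.subtype with hT
    have hTP : T ≤ P := map_subtype_le _
    have hRT : R ≤ T := by
      rw [hT, ← Subgroup.map_subgroupOf_eq_of_le hRP]
      exact Subgroup.map_mono le_sup_left
    have hTeq : T = R ⊔ ⁅P, P⁆ := by
      rw [hT, hT₀, Subgroup.map_sup, Subgroup.map_subgroupOf_eq_of_le hRP,
        Subgroup.map_subtype_commutator]
    have hBT : B ≤ normalizer (T : Set X) := by
      rw [hTeq, Subgroup.le_normalizer_iff]
      intro b hb x hx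
      have h : R ⊔ ⁅P, P⁆ ≤ (R ⊔ ⁅P, P⁆).comap (MulAut.conj b).toMonoidHom := by
        refine sup_le (fun y hy => ?_) ?_
        · exact Subgroup.mem_sup_left ((Subgroup.le_normalizer_iff.mp hBR) b hb y hy)
        · rw [Subgroup.commutator_le]
          intro y hy z hz
          rw [Subgroup.mem_comap, map_commutatorElement]
          exact Subgroup.mem_sup_right (Subgroup.commutator_mem_commutator
            ((Subgroup.le_normalizer_iff.mp hBP) b hb y hy)
            ((Subgroup.le_normalizer_iff.mp hBP) b hb z hz))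
      exact h hx
    have hTcard : Nat.card T ≤ k := by
      have h1 : Nat.card T₀ < Nat.card P := by
        rcases lt_or_eq_of_le (Subgroup.card_le_card_group T₀) with h | h
        · exact h
        · exact absurd (Subgroup.eq_top_of_card_eq T₀ h) hT₀lt
      rw [hT, Subgroup.card_map_of_injective P.subtype_injective]
      omega
    have hIH := ih T hTcard hRT (hPp.to_le hTP)
      (hcop.coprime_dvd_left (card_dvd_of_le hTP)) hBT hBR
    -- `P` is generated by the centralizers
    have hB1 : B ≠ ⊥ := by
      intro h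
      rw [h, Subgroup.card_bot] at hBc
      have := Nat.one_lt_pow two_ne_zero (Fact.out : q.Prime).one_lt
      omega
    have hgen : P ≤ Bs.sup (fun b => P ⊓ centralizer ({b} : Set X)) := by
      conv_lhs => rw [← CfsgLib.Coprime39.eq_hyperCent hB hB1 hcop hBP]
      refine iSup_le fun B₀ => ?_
      have hB₀ : (B₀ : Subgroup X) ≠ ⊥ := by
        intro h
        have h2 := B₀.2.2
        rw [h, relIndex_bot_left, hBc, pow_two] at h2
        have := (Fact.out : q.Prime).one_lt
        nlinarith
      obtain ⟨b, hb, hb1⟩ := (Subgroup.bot_or_exists_ne_one (B₀ : Subgroup X)).resolve_left hB₀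
      refine le_trans ?_ (Finset.le_sup (f := fun b => P ⊓ centralizer ({b} : Set X))
        (hBs b (B₀.2.1 hb) hb1))
      exact inf_le_inf_left _ (centralizer_le (by simpa using hb))
    -- the abelian step
    have hstep : T.relIndex P ≤ ∏ b ∈ Bs, T.relIndex (P ⊓ centralizer ({b} : Set X)) := by
      have h := relIndex_sup_le_prod T₀ le_sup_right Bs
        (fun b => (P ⊓ centralizer ({b} : Set X)).subgroupOf P)
      have htop : Bs.sup (fun b => (P ⊓ centralizer ({b} : Set X)).subgroupOf P) = ⊤ := by
        apply Subgroup.map_injective P.subtype_injective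
        refine le_antisymm ((map_subtype_le _).trans (le_of_eq ?_)) ?_
        · rw [← MonoidHom.range_eq_map, Subgroup.range_subtype]
        rw [← MonoidHom.range_eq_map, Subgroup.range_subtype]
        refine hgen.trans (Finset.sup_le fun b hb => ?_)
        calc P ⊓ centralizer ({b} : Set X)
            = ((P ⊓ centralizer ({b} : Set X)).subgroupOf P).map P.subtype :=
              (Subgroup.map_subgroupOf_eq_of_le inf_le_left).symm
          _ ≤ _ := Subgroup.map_mono
              (Finset.le_sup (f := fun b => (P ⊓ centralizer ({b} : Set X)).subgroupOf P) hb)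
      rw [htop, top_sup_eq] at h
      have hTs : T.subgroupOf P = T₀ := Subgroup.comap_map_eq_self_of_injective P.subtype_injective T₀
      calc T.relIndex P = T₀.relIndex ⊤ := by rw [Subgroup.relIndex_top_right, ← hTs]; rfl
        _ ≤ _ := h
        _ = _ := Finset.prod_congr rfl fun b _ => by
              rw [← hTs, Subgroup.relIndex_subgroupOf inf_le_left]
    calc R.relIndex P = R.relIndex T * T.relIndex P := (relIndex_mul_relIndex _ _ _ hRT hTP).symm
      _ ≤ (∏ b ∈ Bs, (R ⊓ centralizer ({b} : Set X)).relIndex (T ⊓ centralizer ({b} : Set X))) *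
          ∏ b ∈ Bs, T.relIndex (P ⊓ centralizer ({b} : Set X)) := Nat.mul_le_mul hIH hstep
      _ = ∏ b ∈ Bs,
          (R ⊓ centralizer ({b} : Set X)).relIndex (P ⊓ centralizer ({b} : Set X)) := by
        rw [← Finset.prod_mul_distrib]
        refine Finset.prod_congr rfl fun b _ => ?_
        have e : T ⊓ centralizer ({b} : Set X) = T ⊓ (P ⊓ centralizer ({b} : Set X)) := by
          rw [← inf_assoc, inf_eq_left.mpr hTP]
        have e2 : T.relIndex (P ⊓ centralizer ({b} : Set X)) =
            (T ⊓ centralizer ({b} : Set X)).relIndex (P ⊓ centralizer ({b} : Set X)) := by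
          rw [e, inf_relIndex_right]
        rw [e2, relIndex_mul_relIndex _ _ _ (inf_le_inf_right _ hRT) (inf_le_inf_right _ hTP)]

/-- The bound on the number of conjugates of an element fixed by a subgroup of order `q²`. -/
def classBound (q m : ℕ) : ℕ := ((m + 1) ^ (q ^ 2)) ^ (m + 1)

/-- An element of `G` centralized by `B` of order `q²` has boundedly many conjugates. -/
theorem relIndex_centralizer_le {q m : ℕ} [Fact q.Prime] {G B : Subgroup X}
    (hB : Cfsg.IsElementaryAbelian q B) (hBc : Nat.card B = q ^ 2)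
    (hBG : B ≤ normalizer (G : Set X)) (hcop : (Nat.card G).Coprime q)
    (hder : ∀ b ∈ B, b ≠ 1 →
      Nat.card ↥⁅G ⊓ centralizer ({b} : Set X), G ⊓ centralizer ({b} : Set X)⁆ ≤ m)
    {x : X} (hx : x ∈ G) (hxB : ∀ b ∈ B, b * x = x * b) :
    (centralizer ({x} : Set X)).relIndex G ≤ classBound q m := by
  classical
  haveI := hB.1
  set K := centralizer ({x} : Set X) with hK
  set Bs : Finset X := ((Set.toFinite (B : Set X)).toFinset).filter (fun b => b ≠ 1) with hBs
  have hBs' : ∀ b ∈ B, b ≠ 1 → b ∈ Bs := fun b hb hb1 => by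
    rw [hBs, Finset.mem_filter, Set.Finite.mem_toFinset]; exact ⟨hb, hb1⟩
  have hBscard : Bs.card ≤ q ^ 2 := by
    rw [hBs]
    refine (Finset.card_filter_le _ _).trans (le_of_eq ?_)
    rw [← hBc, ← Set.ncard_eq_toFinset_card, ← Nat.card_coe_set_eq]
    rfl
  -- each element of `B#` contributes at most `m`
  have hloc : ∀ b ∈ Bs, K.relIndex (G ⊓ centralizer ({b} : Set X)) ≤ m := by
    intro b hb
    rw [hBs, Finset.mem_filter, Set.Finite.mem_toFinset] at hb
    set C := G ⊓ centralizer ({b} : Set X) with hC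
    have hxC : x ∈ C := ⟨hx, mem_centralizer_singleton_iff.mpr (hxB b hb.1).symm⟩
    refine le_trans ?_ (hder b hb.1 hb.2)
    let f : ↥C ⧸ K.subgroupOf C → ↥⁅C, C⁆ := Quotient.lift
      (fun c : C => (⟨⁅(c : X), x⁆, Subgroup.commutator_mem_commutator c.2 hxC⟩ : ↥⁅C, C⁆))
      (fun c d hcd => Subtype.ext (by
        replace hcd := QuotientGroup.leftRel_apply.mp hcd
        have h := mem_centralizer_singleton_iff.mp (Subgroup.mem_subgroupOf.mp hcd)
        simp only [Subgroup.coe_mul, Subgroup.coe_inv] at h
        show ⁅(c : X), x⁆ = ⁅(d : X), x⁆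
        simp only [commutatorElement_def]
        congr 1
        calc (c : X) * x * (c : X)⁻¹ = c * (x * ((c : X)⁻¹ * d)) * (d : X)⁻¹ := by group
          _ = c * (((c : X)⁻¹ * d) * x) * (d : X)⁻¹ := by rw [h]
          _ = d * x * (d : X)⁻¹ := by group))
    have hf : Function.Injective f := by
      intro u v
      induction u using QuotientGroup.induction_on with
      | _ c => induction v using QuotientGroup.induction_on with
        | _ d =>
          intro h
          have h' : ⁅(c : X), x⁆ = ⁅(d : X), x⁆ := congrArg Subtype.val h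
          simp only [commutatorElement_def, mul_left_inj] at h'
          rw [QuotientGroup.eq, Subgroup.mem_subgroupOf, mem_centralizer_singleton_iff]
          simp only [Subgroup.coe_mul, Subgroup.coe_inv]
          calc (c : X)⁻¹ * d * x = (c : X)⁻¹ * (d * x * (d : X)⁻¹) * d := by group
            _ = (c : X)⁻¹ * (c * x * (c : X)⁻¹) * d := by rw [h']
            _ = x * ((c : X)⁻¹ * d) := by group
    exact Nat.card_le_card_of_injective f hf
  have hsolvB : Group.IsSolvable B := Group.isSolvable_of_comm fun a b => mul_comm' a b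
  have hcopB : (Nat.card B).Coprime (Nat.card G) := hBc ▸ (hcop.symm.pow_left 2)
  -- prime parts
  set GK := G ⊓ K with hGK
  have hBK : B ≤ normalizer (GK : Set X) := by
    refine le_normalizer_iff.mpr fun b hb y hy => ⟨le_normalizer_iff.mp hBG b hb y hy.1, ?_⟩
    refine mem_centralizer_singleton_iff.mpr ?_
    have hy2 := mem_centralizer_singleton_iff.mp hy.2
    have hbx : Commute b x := hxB b hb
    exact ((hbx.mul_left (show Commute y x from hy2)).mul_left hbx.inv_left).eq
  have hidx : K.relIndex G = GK.relIndex G := (inf_relIndex_left G K).symm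
  rw [hidx]
  set n := GK.relIndex G with hn
  have hn0 : n ≠ 0 := relIndex_ne_zero' _ _
  have hnG : Nat.card GK * n = Nat.card G := by
    have h := relIndex_mul_relIndex (⊥ : Subgroup X) GK G bot_le inf_le_left
    rwa [relIndex_bot_left, relIndex_bot_left] at h
  have hpart : ∀ p : ℕ, p.Prime →
      p ^ n.factorization p ≤ (m + 1) ^ (q ^ 2) ∧ (m < p → p ^ n.factorization p = 1) := by
    intro p hp
    haveI := Fact.mk hp
    obtain ⟨R₁, hR₁⟩ := CfsgLib.Coprime.exists_invariant_sylow B GK hBK
      (hcopB.coprime_dvd_right (card_dvd_of_le inf_le_left)) (Or.inl hsolvB) p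
    set R := (R₁ : Subgroup GK).map GK.subtype with hR
    have hRG : R ≤ G := (map_subtype_le _).trans inf_le_left
    have hRp : IsPGroup p R := R₁.isPGroup'.map _
    obtain ⟨P₁, hRP, hP⟩ := CfsgLib.Coprime.exists_invariant_sylow_ge B G hBG hcopB
      (Or.inl hsolvB) p R hRG hRp hR₁
    set P := (P₁ : Subgroup G).map G.subtype with hPdef
    have hPG : P ≤ G := map_subtype_le _
    have hPp : IsPGroup p P := P₁.isPGroup'.map _
    have hRc : Nat.card R = p ^ (Nat.card GK).factorization p := by
      rw [hR, Subgroup.card_subtype, R₁.card_eq_multiplicity]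
    have hPc : Nat.card P = p ^ (Nat.card G).factorization p := by
      rw [hPdef, Subgroup.card_subtype, P₁.card_eq_multiplicity]
    have hrel : R.relIndex P = p ^ n.factorization p := by
      have h := relIndex_mul_relIndex (⊥ : Subgroup X) R P bot_le hRP
      rw [relIndex_bot_left, relIndex_bot_left, hRc, hPc, ← hnG,
        Nat.factorization_mul Nat.card_pos.ne' hn0, Finsupp.add_apply, pow_add] at h
      exact Nat.eq_of_mul_eq_mul_left (pow_pos hp.pos _) h
    -- `R = P ∩ K`
    have hRK : R = P ⊓ K := by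
      have hle : R ≤ P ⊓ K := le_inf hRP ((map_subtype_le _).trans inf_le_right)
      refine eq_of_le_of_card_ge hle ?_
      obtain ⟨i, hi⟩ := IsPGroup.iff_card.mp (hPp.to_le (inf_le_left : P ⊓ K ≤ P))
      rw [hi, hRc]
      refine Nat.pow_le_pow_right hp.pos ((hp.pow_dvd_iff_le_factorization Nat.card_pos.ne').mp ?_)
      rw [← hi]
      exact card_dvd_of_le (le_inf (inf_le_left.trans hPG) inf_le_right)
    have h1 := relIndex_le_prod hB hBc Bs hBs' R (Nat.card P) P le_rfl hRP hPp
      (hcop.coprime_dvd_left (card_dvd_of_le hPG)) hP hR₁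
    have hterm : ∀ b ∈ Bs, (R ⊓ centralizer ({b} : Set X)).relIndex
        (P ⊓ centralizer ({b} : Set X)) ≤ m := by
      intro b hb
      have e : R ⊓ centralizer ({b} : Set X) = K ⊓ (P ⊓ centralizer ({b} : Set X)) := by
        rw [hRK, inf_comm P K, inf_assoc]
      rw [e, inf_relIndex_right]
      exact (relIndex_le_of_le_right (inf_le_inf_right _ hPG) (relIndex_ne_zero' _ _)).trans
        (hloc b hb)
    rw [hrel] at h1
    refine ⟨h1.trans ((Finset.prod_le_pow_card _ _ (m + 1)
      fun b hb => (hterm b hb).trans (Nat.le_succ m)).trans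
      (Nat.pow_le_pow_right (Nat.succ_pos m) hBscard)), fun hmp => ?_⟩
    refine le_antisymm (h1.trans (le_of_eq (Finset.prod_eq_one fun b hb => ?_)))
      (Nat.one_le_pow _ _ hp.pos)
    have hdvd : (R ⊓ centralizer ({b} : Set X)).relIndex (P ⊓ centralizer ({b} : Set X)) ∣
        Nat.card ↥(P ⊓ centralizer ({b} : Set X)) := relIndex_dvd_card _ _
    obtain ⟨j, hj⟩ := IsPGroup.iff_card.mp
      (hPp.to_le (inf_le_left : P ⊓ centralizer ({b} : Set X) ≤ P))
    rw [hj] at hdvd
    obtain ⟨i, -, hi⟩ := (Nat.dvd_prime_pow hp).mp hdvd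
    have hle := hterm b hb
    rw [hi] at hle ⊢
    rcases Nat.eq_zero_or_pos i with h0 | h0
    · rw [h0, pow_zero]
    · have := Nat.le_self_pow h0.ne' p
      omega
  have hprod : n = ∏ p ∈ n.primeFactors, p ^ n.factorization p := by
    conv_lhs => rw [← Nat.prod_factorization_pow_eq_self hn0]
    rw [Finsupp.prod, Nat.support_factorization]
  have hsub : n.primeFactors ⊆ Finset.range (m + 1) := by
    intro p hp
    have hpp := Nat.prime_of_mem_primeFactors hp
    by_contra h
    have h1 := (hpart p hpp).2 (by rw [Finset.mem_range] at h; omega)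
    have h2 := hpp.factorization_pos_of_dvd hn0 (Nat.dvd_of_mem_primeFactors hp)
    have := Nat.le_self_pow h2.ne' p
    have := hpp.two_le
    omega
  rw [hprod]
  refine (Finset.prod_le_pow_card _ _ _
    fun p hp => (hpart p (Nat.prime_of_mem_primeFactors hp)).1).trans ?_
  rw [classBound]
  refine Nat.pow_le_pow_right (Nat.one_le_pow _ _ (Nat.succ_pos m)) ?_
  exact (Finset.card_le_card hsub).trans (Finset.card_range _).le

/-- `|⁅G, G⁆|` is bounded when all `|C_G(a)'|` are. -/
theorem card_commutator_le {q m : ℕ} [Fact q.Prime] {A G : Subgroup X}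
    (hA : Cfsg.IsElementaryAbelian q A) (hAc : Nat.card A = q ^ 3)
    (hAG : A ≤ normalizer (G : Set X)) (hcop : (Nat.card G).Coprime q)
    (hder : ∀ a ∈ A, a ≠ 1 →
      Nat.card ↥⁅G ⊓ centralizer ({a} : Set X), G ⊓ centralizer ({a} : Set X)⁆ ≤ m) :
    Nat.card ↥⁅G, G⁆ ≤ generatedBound (q ^ 3 * m) (classBound q m) m.factorial := by
  classical
  haveI := hA.1
  have hq : q.Prime := Fact.out
  rw [← Subgroup.map_subtype_commutator, Subgroup.card_subtype]
  -- generators
  let Y : Set G := {y | ∃ B : Subgroup X, B ≤ A ∧ Nat.card B = q ^ 2 ∧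
    ∀ b ∈ B, b * (y : X) = (y : X) * b}
  -- commutators
  let As : Finset X := ((Set.toFinite (A : Set X)).toFinset).filter (fun a => a ≠ 1)
  let S₀ : Finset G := As.biUnion fun a =>
    (Set.toFinite {g : G | (g : X) ∈
      ⁅G ⊓ centralizer ({a} : Set X), G ⊓ centralizer ({a} : Set X)⁆}).toFinset
  have hAs : ∀ a, a ∈ As → a ∈ A ∧ a ≠ 1 := fun a ha => by
    simp only [As, Finset.mem_filter, Set.Finite.mem_toFinset] at ha; exact ha
  refine card_commutator_le_of_generators m.factorial_pos Y ?_ S₀ ?_ ?_ ?_ ?_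
  · apply Subgroup.map_injective G.subtype_injective
    rw [← MonoidHom.range_eq_map, Subgroup.range_subtype]
    refine le_antisymm (map_subtype_le _) ?_
    have hA1 : A ≠ ⊥ := by
      intro h
      rw [h, Subgroup.card_bot] at hAc
      have := Nat.one_lt_pow (n := 3) (by norm_num) hq.one_lt
      omega
    conv_lhs => rw [← CfsgLib.Coprime39.eq_hyperCent hA hA1 hcop hAG]
    refine iSup_le fun B => fun y hy => ?_
    have hBc : Nat.card (B : Subgroup X) = q ^ 2 := by
      have h := relIndex_mul_relIndex (⊥ : Subgroup X) (B : Subgroup X) A bot_le B.2.1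
      rw [relIndex_bot_left, relIndex_bot_left, B.2.2, hAc] at h
      refine Nat.eq_of_mul_eq_mul_right hq.pos ?_
      rw [h, pow_succ]
    exact Subgroup.mem_map_of_mem G.subtype (x := ⟨y, hy.1⟩)
      (Subgroup.subset_closure ⟨B, B.2.1, hBc, fun b hb => mem_centralizer_iff.mp hy.2 b hb⟩)
  · refine Finset.card_biUnion_le.trans ((Finset.sum_le_card_nsmul As _ m fun a ha => ?_).trans ?_)
    · refine le_trans ?_ (hder a (hAs a ha).1 (hAs a ha).2)
      rw [← Set.ncard_eq_toFinset_card, ← Nat.card_coe_set_eq]
      exact Nat.card_le_card_of_injective (fun g => ⟨((g.1 : G) : X), g.2⟩)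
        (fun g h e => Subtype.ext (Subtype.ext (congrArg Subtype.val e :)))
    · rw [smul_eq_mul]
      refine Nat.mul_le_mul_right _ ((Finset.card_filter_le _ _).trans (le_of_eq ?_))
      rw [← hAc, ← Set.ncard_eq_toFinset_card, ← Nat.card_coe_set_eq]
      rfl
  · rintro x ⟨B, hBA, hBc, hxB⟩ y ⟨B', hB'A, hB'c, hyB⟩
    obtain ⟨a, haB, ha1⟩ : ∃ a ∈ B ⊓ B', a ≠ 1 := by
      refine (Subgroup.bot_or_exists_ne_one _).resolve_left fun h => ?_
      have hle : B' ≤ normalizer (B : Set X) := le_normalizer_iff.mpr fun b hb z hz => by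
        have : b * z = z * b := setLike_mul_comm (hB'A hb) (hBA hz)
        rwa [this, mul_inv_cancel_right]
      have h1 := CfsgLib.Coprime.card_sup_of_disjoint hle (by first | exact h | (rw [inf_comm]; exact h))
      have h2 := Nat.le_of_dvd Nat.card_pos (card_dvd_of_le (sup_le hB'A hBA : B' ⊔ B ≤ A))
      rw [h1, hBc, hB'c, hAc, ← pow_add] at h2
      have := Nat.pow_lt_pow_right hq.one_lt (show 3 < 2 + 2 by norm_num)
      omega
    refine Finset.mem_biUnion.mpr ⟨a, ?_, ?_⟩
    · simp only [As, Finset.mem_filter, Set.Finite.mem_toFinset]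
      exact ⟨hBA haB.1, ha1⟩
    · rw [Set.Finite.mem_toFinset, Set.mem_setOf_eq]
      exact Subgroup.commutator_mem_commutator
        ⟨x.2, mem_centralizer_singleton_iff.mpr (hxB a haB.1).symm⟩
        ⟨y.2, mem_centralizer_singleton_iff.mpr (hyB a haB.2).symm⟩
  · intro g hg
    obtain ⟨a, ha, hga⟩ := Finset.mem_biUnion.mp hg
    rw [Set.Finite.mem_toFinset, Set.mem_setOf_eq] at hga
    obtain ⟨ha, ha1⟩ := hAs a ha
    set D := ⁅G ⊓ centralizer ({a} : Set X), G ⊓ centralizer ({a} : Set X)⁆
    have h : (⟨(g : X), hga⟩ : D) ^ m.factorial = 1 := by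
      refine orderOf_dvd_iff_pow_eq_one.mp ((_root_.orderOf_dvd_natCard _).trans ?_)
      exact Nat.dvd_factorial Nat.card_pos (hder a ha ha1)
    exact Subtype.ext (congrArg Subtype.val h :)
  · rintro x ⟨B, hBA, hBc, hxB⟩
    haveI : IsMulCommutative B :=
      ⟨⟨fun u v => Subtype.ext (setLike_mul_comm (hBA u.2) (hBA v.2))⟩⟩
    have hB : Cfsg.IsElementaryAbelian q B := ⟨inferInstance, fun b hb => hA.2 b (hBA hb)⟩
    refine le_trans ?_ (relIndex_centralizer_le hB hBc (hBA.trans hAG) hcop
      (fun b hb hb1 => hder b (hBA hb) hb1) x.2 hxB)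
    rw [← Nat.card_coe_set_eq]
    show _ ≤ Nat.card (↥G ⧸ (centralizer ({(x : X)} : Set X)).subgroupOf G)
    refine Nat.card_le_card_of_surjective (Quotient.lift
      (fun g : G => (⟨g * x * g⁻¹, g, rfl⟩ : Set.range fun g : G => g * x * g⁻¹))
      (fun g h hgh => Subtype.ext (Subtype.ext ?_))) ?_
    · replace hgh := QuotientGroup.leftRel_apply.mp hgh
      have h' := mem_centralizer_singleton_iff.mp (Subgroup.mem_subgroupOf.mp hgh)
      simp only [Subgroup.coe_mul, Subgroup.coe_inv] at h' ⊢
      calc (g : X) * x * (g : X)⁻¹ = g * ((x : X) * ((g : X)⁻¹ * h)) * (h : X)⁻¹ := by group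
        _ = g * (((g : X)⁻¹ * h) * x) * (h : X)⁻¹ := by rw [h']
        _ = h * x * (h : X)⁻¹ := by group
    · rintro ⟨_, g, rfl⟩
      exact ⟨QuotientGroup.mk g, rfl⟩

end Action

end CfsgLib.BoundedDerived
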